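import Mathlib.Tactic
import Mathlib.RingTheory.Coprime.Lemmas

/-!
# No degree just below `q (q⁶ + q³ + 1)(q⁴ + 1)`

For `1 ≤ D ≤ 6` and a prime power `q ≥ 3` the number `q (q⁶ + q³ + 1)(q⁴ + 1) - D` does not divide
`q⁴⁷ (q² - 1)(q⁶ - 1)(q⁸ - 1)(q⁹ - 1)(q¹² - 1)`.
-/

set_option autoImplicit false

namespace CfsgLib.ESixDegree

/-- The claimed minimal degree. -/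
def tgt (q : ℕ) : ℕ := q * (q ^ 6 + q ^ 3 + 1) * (q ^ 4 + 1)

/-- A multiple of every possible degree. -/
def bigN (q : ℕ) : ℕ := q ^ 47 * ((q ^ 2 - 1) * (q ^ 6 - 1) * (q ^ 8 - 1) * (q ^ 9 - 1) * (q ^ 12 - 1))

theorem kill {k z L : ℤ} (a b : ℤ) (h : a * k + b * z = L) : ∀ (n : ℕ) (y : ℤ),
    k ∣ z ^ n * y → k ∣ L ^ n * y := by
  intro n
  induction n with
  | zero => simp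
  | succ n ih =>
    intro y hy
    have h1 : k ∣ z ^ n * (L * y) := by
      have e : z ^ n * (L * y) = k * (a * (z ^ n * y)) + b * (z ^ (n + 1) * y) := by rw [← h]; ring
      rw [e]
      exact dvd_add (Dvd.intro _ rfl) (Dvd.dvd.mul_left hy b)
    rw [show L ^ (n + 1) * y = L ^ n * (L * y) by ring]
    exact ih _ h1

theorem gcd_pow_dvd {q D k N : ℕ} (hq : IsPrimePow q) (hD : ¬ q ∣ D) (hk : q ∣ k + D) :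
    Nat.gcd k (q ^ N) ∣ D := by
  obtain ⟨p, f, hp, hf, rfl⟩ := hq
  rw [← Nat.prime_iff] at hp
  obtain ⟨e, -, he⟩ := (Nat.dvd_prime_pow hp).1 (Nat.gcd_dvd_right k (p ^ (f * N)))
  rw [← pow_mul, he]
  have hek : p ^ e ∣ k := he ▸ Nat.gcd_dvd_left _ _
  rcases le_or_gt f e with h | h
  · exact absurd ((Nat.dvd_add_right ((pow_dvd_pow p h).trans hek)).1 hk) hD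
  · exact (Nat.dvd_add_right hek).1 ((pow_dvd_pow p h.le).trans hk)

theorem stuff_eq (x : ℤ) : (x ^ 2 - 1) * (x ^ 6 - 1) * (x ^ 8 - 1) * (x ^ 9 - 1) * (x ^ 12 - 1) =
    (-1 + x) ^ 5 * (1 + x) ^ 4 * (1 + x + x ^ 2) ^ 3 * (1 + x ^ 2) ^ 2 * (1 - x + x ^ 2) ^ 2 * (1 + x ^ 4) ^ 1 * (1 + x ^ 3 + x ^ 6) ^ 1 * (1 - x ^ 2 + x ^ 4) ^ 1 := by
  ring

theorem bound_1 (x : ℤ) (h : (-1 + x + x ^ 4 + x ^ 5 + x ^ 7 + x ^ 8 + x ^ 11) ∣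
    1 * ((-1 + x) ^ 5 * (1 + x) ^ 4 * (1 + x + x ^ 2) ^ 3 * (1 + x ^ 2) ^ 2 * (1 - x + x ^ 2) ^ 2 * (1 + x ^ 4) ^ 1 * (1 + x ^ 3 + x ^ 6) ^ 1 * (1 - x ^ 2 + x ^ 4) ^ 1)) :
    (-1 + x ^ 2 + x ^ 3 + x ^ 4 + x ^ 5 + x ^ 8 + x ^ 9) ∣ 800000 := by
  replace h := (Dvd.intro (1 - x + x ^ 2) (by ring) : (-1 + x ^ 2 + x ^ 3 + x ^ 4 + x ^ 5 + x ^ 8 + x ^ 9) ∣ (-1 + x + x ^ 4 + x ^ 5 + x ^ 7 + x ^ 8 + x ^ 11)).trans h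
  replace h := kill (1) (-6 - 6 * x - 5 * x ^ 2 - 4 * x ^ 3 - 3 * x ^ 4 - 2 * x ^ 5 - 2 * x ^ 6 - 2 * x ^ 7 - x ^ 8) (k := -1 + x ^ 2 + x ^ 3 + x ^ 4 + x ^ 5 + x ^ 8 + x ^ 9) (z := -1 + x) (L := 5) (by ring) 5 (1 * (1 + x) ^ 4 * (1 + x + x ^ 2) ^ 3 * (1 + x ^ 2) ^ 2 * (1 - x + x ^ 2) ^ 2 * (1 + x ^ 4) ^ 1 * (1 + x ^ 3 + x ^ 6) ^ 1 * (1 - x ^ 2 + x ^ 4) ^ 1)
    (h.trans (dvd_of_eq (by ring)))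
  replace h := kill (-1) (x ^ 2 + x ^ 4 + x ^ 8) (k := -1 + x ^ 2 + x ^ 3 + x ^ 4 + x ^ 5 + x ^ 8 + x ^ 9) (z := 1 + x) (L := 1) (by ring) 4 (1 * 5 ^ 5 * (1 + x + x ^ 2) ^ 3 * (1 + x ^ 2) ^ 2 * (1 - x + x ^ 2) ^ 2 * (1 + x ^ 4) ^ 1 * (1 + x ^ 3 + x ^ 6) ^ 1 * (1 - x ^ 2 + x ^ 4) ^ 1)
    (h.trans (dvd_of_eq (by ring)))
  replace h := kill (x) (2 - x - x ^ 2 + x ^ 3 - x ^ 4 - x ^ 5 + x ^ 6 - x ^ 8) (k := -1 + x ^ 2 + x ^ 3 + x ^ 4 + x ^ 5 + x ^ 8 + x ^ 9) (z := 1 + x + x ^ 2) (L := 2) (by ring) 3 (1 * 5 ^ 5 * 1 ^ 4 * (1 + x ^ 2) ^ 2 * (1 - x + x ^ 2) ^ 2 * (1 + x ^ 4) ^ 1 * (1 + x ^ 3 + x ^ 6) ^ 1 * (1 - x ^ 2 + x ^ 4) ^ 1)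
    (h.trans (dvd_of_eq (by ring)))
  replace h := kill (-x) (1 - x - x ^ 2 + 2 * x ^ 3 + 2 * x ^ 4 - x ^ 5 - x ^ 6 + x ^ 7 + x ^ 8) (k := -1 + x ^ 2 + x ^ 3 + x ^ 4 + x ^ 5 + x ^ 8 + x ^ 9) (z := 1 + x ^ 2) (L := 1) (by ring) 2 (1 * 5 ^ 5 * 1 ^ 4 * 2 ^ 3 * (1 - x + x ^ 2) ^ 2 * (1 + x ^ 4) ^ 1 * (1 + x ^ 3 + x ^ 6) ^ 1 * (1 - x ^ 2 + x ^ 4) ^ 1)
    (h.trans (dvd_of_eq (by ring)))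
  replace h := kill (-1) (3 + 3 * x + x ^ 2 - x ^ 3 - x ^ 4 + x ^ 5 + 2 * x ^ 6 + x ^ 7) (k := -1 + x ^ 2 + x ^ 3 + x ^ 4 + x ^ 5 + x ^ 8 + x ^ 9) (z := 1 - x + x ^ 2) (L := 4) (by ring) 2 (1 * 5 ^ 5 * 1 ^ 4 * 2 ^ 3 * 1 ^ 2 * (1 + x ^ 4) ^ 1 * (1 + x ^ 3 + x ^ 6) ^ 1 * (1 - x ^ 2 + x ^ 4) ^ 1)
    (h.trans (dvd_of_eq (by ring)))
  replace h := kill (-1 + x - x ^ 2) (x + x ^ 4 + x ^ 7) (k := -1 + x ^ 2 + x ^ 3 + x ^ 4 + x ^ 5 + x ^ 8 + x ^ 9) (z := 1 + x ^ 4) (L := 1) (by ring) 1 (1 * 5 ^ 5 * 1 ^ 4 * 2 ^ 3 * 1 ^ 2 * 4 ^ 2 * (1 + x ^ 3 + x ^ 6) ^ 1 * (1 - x ^ 2 + x ^ 4) ^ 1)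
    (h.trans (dvd_of_eq (by ring)))
  replace h := kill (-1 + x - x ^ 2) (x + x ^ 5) (k := -1 + x ^ 2 + x ^ 3 + x ^ 4 + x ^ 5 + x ^ 8 + x ^ 9) (z := 1 + x ^ 3 + x ^ 6) (L := 1) (by ring) 1 (1 * 5 ^ 5 * 1 ^ 4 * 2 ^ 3 * 1 ^ 2 * 4 ^ 2 * 1 ^ 1 * (1 - x ^ 2 + x ^ 4) ^ 1)
    (h.trans (dvd_of_eq (by ring)))
  replace h := kill (-1 + x - x ^ 2) (1 + x + x ^ 2 + x ^ 3 + x ^ 4 + x ^ 5 + x ^ 7) (k := -1 + x ^ 2 + x ^ 3 + x ^ 4 + x ^ 5 + x ^ 8 + x ^ 9) (z := 1 - x ^ 2 + x ^ 4) (L := 2) (by ring) 1 (1 * 5 ^ 5 * 1 ^ 4 * 2 ^ 3 * 1 ^ 2 * 4 ^ 2 * 1 ^ 1 * 1 ^ 1)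
    (h.trans (dvd_of_eq (by ring)))
  refine h.trans (dvd_of_eq ?_)
  norm_num

theorem bound_2 (x : ℤ) (h : (-2 + x + x ^ 4 + x ^ 5 + x ^ 7 + x ^ 8 + x ^ 11) ∣
    2 * ((-1 + x) ^ 5 * (1 + x) ^ 4 * (1 + x + x ^ 2) ^ 3 * (1 + x ^ 2) ^ 2 * (1 - x + x ^ 2) ^ 2 * (1 + x ^ 4) ^ 1 * (1 + x ^ 3 + x ^ 6) ^ 1 * (1 - x ^ 2 + x ^ 4) ^ 1)) :
    (-2 + x + 2 * x ^ 2 - x ^ 3 - x ^ 4 + 2 * x ^ 5 + x ^ 6 - x ^ 7 + x ^ 9) ∣ 221184000 := by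
  replace h := (Dvd.intro (1 + x ^ 2) (by ring) : (-2 + x + 2 * x ^ 2 - x ^ 3 - x ^ 4 + 2 * x ^ 5 + x ^ 6 - x ^ 7 + x ^ 9) ∣ (-2 + x + x ^ 4 + x ^ 5 + x ^ 7 + x ^ 8 + x ^ 11)).trans h
  replace h := kill (1) (-4 - 3 * x - x ^ 2 - 2 * x ^ 3 - 3 * x ^ 4 - x ^ 5 - x ^ 7 - x ^ 8) (k := -2 + x + 2 * x ^ 2 - x ^ 3 - x ^ 4 + 2 * x ^ 5 + x ^ 6 - x ^ 7 + x ^ 9) (z := -1 + x) (L := 2) (by ring) 5 (2 * (1 + x) ^ 4 * (1 + x + x ^ 2) ^ 3 * (1 + x ^ 2) ^ 2 * (1 - x + x ^ 2) ^ 2 * (1 + x ^ 4) ^ 1 * (1 + x ^ 3 + x ^ 6) ^ 1 * (1 - x ^ 2 + x ^ 4) ^ 1)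
    (h.trans (dvd_of_eq (by ring)))
  replace h := kill (-1) (x + x ^ 2 - 2 * x ^ 3 + x ^ 4 + x ^ 5 - x ^ 7 + x ^ 8) (k := -2 + x + 2 * x ^ 2 - x ^ 3 - x ^ 4 + 2 * x ^ 5 + x ^ 6 - x ^ 7 + x ^ 9) (z := 1 + x) (L := 2) (by ring) 4 (2 * 2 ^ 5 * (1 + x + x ^ 2) ^ 3 * (1 + x ^ 2) ^ 2 * (1 - x + x ^ 2) ^ 2 * (1 + x ^ 4) ^ 1 * (1 + x ^ 3 + x ^ 6) ^ 1 * (1 - x ^ 2 + x ^ 4) ^ 1)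
    (h.trans (dvd_of_eq (by ring)))
  replace h := kill (x) (5 - 3 * x - 3 * x ^ 2 + 4 * x ^ 3 - 3 * x ^ 5 + x ^ 6 + x ^ 7 - x ^ 8) (k := -2 + x + 2 * x ^ 2 - x ^ 3 - x ^ 4 + 2 * x ^ 5 + x ^ 6 - x ^ 7 + x ^ 9) (z := 1 + x + x ^ 2) (L := 5) (by ring) 3 (2 * 2 ^ 5 * 2 ^ 4 * (1 + x ^ 2) ^ 2 * (1 - x + x ^ 2) ^ 2 * (1 + x ^ 4) ^ 1 * (1 + x ^ 3 + x ^ 6) ^ 1 * (1 - x ^ 2 + x ^ 4) ^ 1)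
    (h.trans (dvd_of_eq (by ring)))
  replace h := kill (-1 - x) (10 - x - 7 * x ^ 2 + 2 * x ^ 3 + 5 * x ^ 4 - x ^ 5 - 2 * x ^ 6 + x ^ 7 + x ^ 8) (k := -2 + x + 2 * x ^ 2 - x ^ 3 - x ^ 4 + 2 * x ^ 5 + x ^ 6 - x ^ 7 + x ^ 9) (z := 1 + x ^ 2) (L := 12) (by ring) 2 (2 * 2 ^ 5 * 2 ^ 4 * 5 ^ 3 * (1 - x + x ^ 2) ^ 2 * (1 + x ^ 4) ^ 1 * (1 + x ^ 3 + x ^ 6) ^ 1 * (1 - x ^ 2 + x ^ 4) ^ 1)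
    (h.trans (dvd_of_eq (by ring)))
  replace h := kill (-x) (1 - x - x ^ 2 + 2 * x ^ 3 + 2 * x ^ 4 - x ^ 5 - x ^ 6 + x ^ 7 + x ^ 8) (k := -2 + x + 2 * x ^ 2 - x ^ 3 - x ^ 4 + 2 * x ^ 5 + x ^ 6 - x ^ 7 + x ^ 9) (z := 1 - x + x ^ 2) (L := 1) (by ring) 2 (2 * 2 ^ 5 * 2 ^ 4 * 5 ^ 3 * 12 ^ 2 * (1 + x ^ 4) ^ 1 * (1 + x ^ 3 + x ^ 6) ^ 1 * (1 - x ^ 2 + x ^ 4) ^ 1)
    (h.trans (dvd_of_eq (by ring)))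
  replace h := kill (-1 - x ^ 2) (x + x ^ 4 + x ^ 7) (k := -2 + x + 2 * x ^ 2 - x ^ 3 - x ^ 4 + 2 * x ^ 5 + x ^ 6 - x ^ 7 + x ^ 9) (z := 1 + x ^ 4) (L := 2) (by ring) 1 (2 * 2 ^ 5 * 2 ^ 4 * 5 ^ 3 * 12 ^ 2 * 1 ^ 2 * (1 + x ^ 3 + x ^ 6) ^ 1 * (1 - x ^ 2 + x ^ 4) ^ 1)
    (h.trans (dvd_of_eq (by ring)))
  replace h := kill (-1 - x ^ 2) (x + x ^ 5) (k := -2 + x + 2 * x ^ 2 - x ^ 3 - x ^ 4 + 2 * x ^ 5 + x ^ 6 - x ^ 7 + x ^ 9) (z := 1 + x ^ 3 + x ^ 6) (L := 2) (by ring) 1 (2 * 2 ^ 5 * 2 ^ 4 * 5 ^ 3 * 12 ^ 2 * 1 ^ 2 * 2 ^ 1 * (1 - x ^ 2 + x ^ 4) ^ 1)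
    (h.trans (dvd_of_eq (by ring)))
  replace h := kill (-1 - x ^ 2) (1 + x + x ^ 2 + x ^ 3 + x ^ 4 + x ^ 5 + x ^ 7) (k := -2 + x + 2 * x ^ 2 - x ^ 3 - x ^ 4 + 2 * x ^ 5 + x ^ 6 - x ^ 7 + x ^ 9) (z := 1 - x ^ 2 + x ^ 4) (L := 3) (by ring) 1 (2 * 2 ^ 5 * 2 ^ 4 * 5 ^ 3 * 12 ^ 2 * 1 ^ 2 * 2 ^ 1 * 2 ^ 1)
    (h.trans (dvd_of_eq (by ring)))
  refine h.trans (dvd_of_eq ?_)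
  norm_num

theorem bound_3 (x : ℤ) (h : (-3 + x + x ^ 4 + x ^ 5 + x ^ 7 + x ^ 8 + x ^ 11) ∣
    3 * ((-1 + x) ^ 5 * (1 + x) ^ 4 * (1 + x + x ^ 2) ^ 3 * (1 + x ^ 2) ^ 2 * (1 - x + x ^ 2) ^ 2 * (1 + x ^ 4) ^ 1 * (1 + x ^ 3 + x ^ 6) ^ 1 * (1 - x ^ 2 + x ^ 4) ^ 1)) :
    (-3 + x + x ^ 4 + x ^ 5 + x ^ 7 + x ^ 8 + x ^ 11) ∣ 14171760000 := by
  replace h := kill (1) (-6 - 5 * x - 5 * x ^ 2 - 5 * x ^ 3 - 4 * x ^ 4 - 3 * x ^ 5 - 3 * x ^ 6 - 2 * x ^ 7 - x ^ 8 - x ^ 9 - x ^ 10) (k := -3 + x + x ^ 4 + x ^ 5 + x ^ 7 + x ^ 8 + x ^ 11) (z := -1 + x) (L := 3) (by ring) 5 (3 * (1 + x) ^ 4 * (1 + x + x ^ 2) ^ 3 * (1 + x ^ 2) ^ 2 * (1 - x + x ^ 2) ^ 2 * (1 + x ^ 4) ^ 1 * (1 + x ^ 3 + x ^ 6) ^ 1 * (1 - x ^ 2 + x ^ 4) ^ 1)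
    (h.trans (dvd_of_eq (by ring)))
  replace h := kill (-1) (2 - x + x ^ 2 - x ^ 3 + 2 * x ^ 4 - x ^ 5 + x ^ 6 + x ^ 8 - x ^ 9 + x ^ 10) (k := -3 + x + x ^ 4 + x ^ 5 + x ^ 7 + x ^ 8 + x ^ 11) (z := 1 + x) (L := 5) (by ring) 4 (3 * 3 ^ 5 * (1 + x + x ^ 2) ^ 3 * (1 + x ^ 2) ^ 2 * (1 - x + x ^ 2) ^ 2 * (1 + x ^ 4) ^ 1 * (1 + x ^ 3 + x ^ 6) ^ 1 * (1 - x ^ 2 + x ^ 4) ^ 1)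
    (h.trans (dvd_of_eq (by ring)))
  replace h := kill (-1) (3 - 2 * x - x ^ 2 + 3 * x ^ 3 - x ^ 4 - x ^ 5 + 2 * x ^ 6 - x ^ 8 + x ^ 9) (k := -3 + x + x ^ 4 + x ^ 5 + x ^ 7 + x ^ 8 + x ^ 11) (z := 1 + x + x ^ 2) (L := 6) (by ring) 3 (3 * 3 ^ 5 * 5 ^ 4 * (1 + x ^ 2) ^ 2 * (1 - x + x ^ 2) ^ 2 * (1 + x ^ 4) ^ 1 * (1 + x ^ 3 + x ^ 6) ^ 1 * (1 - x ^ 2 + x ^ 4) ^ 1)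
    (h.trans (dvd_of_eq (by ring)))
  replace h := kill (-1) (-2 + x + 2 * x ^ 2 - x ^ 3 - x ^ 4 + 2 * x ^ 5 + x ^ 6 - x ^ 7 + x ^ 9) (k := -3 + x + x ^ 4 + x ^ 5 + x ^ 7 + x ^ 8 + x ^ 11) (z := 1 + x ^ 2) (L := 1) (by ring) 2 (3 * 3 ^ 5 * 5 ^ 4 * 6 ^ 3 * (1 - x + x ^ 2) ^ 2 * (1 + x ^ 4) ^ 1 * (1 + x ^ 3 + x ^ 6) ^ 1 * (1 - x ^ 2 + x ^ 4) ^ 1)
    (h.trans (dvd_of_eq (by ring)))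
  replace h := kill (-1) (-1 + x ^ 2 + x ^ 3 + x ^ 4 + x ^ 5 + x ^ 8 + x ^ 9) (k := -3 + x + x ^ 4 + x ^ 5 + x ^ 7 + x ^ 8 + x ^ 11) (z := 1 - x + x ^ 2) (L := 2) (by ring) 2 (3 * 3 ^ 5 * 5 ^ 4 * 6 ^ 3 * 1 ^ 2 * (1 + x ^ 4) ^ 1 * (1 + x ^ 3 + x ^ 6) ^ 1 * (1 - x ^ 2 + x ^ 4) ^ 1)
    (h.trans (dvd_of_eq (by ring)))
  replace h := kill (-1) (x + x ^ 4 + x ^ 7) (k := -3 + x + x ^ 4 + x ^ 5 + x ^ 7 + x ^ 8 + x ^ 11) (z := 1 + x ^ 4) (L := 3) (by ring) 1 (3 * 3 ^ 5 * 5 ^ 4 * 6 ^ 3 * 1 ^ 2 * 2 ^ 2 * (1 + x ^ 3 + x ^ 6) ^ 1 * (1 - x ^ 2 + x ^ 4) ^ 1)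
    (h.trans (dvd_of_eq (by ring)))
  replace h := kill (-1) (x + x ^ 5) (k := -3 + x + x ^ 4 + x ^ 5 + x ^ 7 + x ^ 8 + x ^ 11) (z := 1 + x ^ 3 + x ^ 6) (L := 3) (by ring) 1 (3 * 3 ^ 5 * 5 ^ 4 * 6 ^ 3 * 1 ^ 2 * 2 ^ 2 * 3 ^ 1 * (1 - x ^ 2 + x ^ 4) ^ 1)
    (h.trans (dvd_of_eq (by ring)))
  replace h := kill (-1) (1 + x + x ^ 2 + x ^ 3 + x ^ 4 + x ^ 5 + x ^ 7) (k := -3 + x + x ^ 4 + x ^ 5 + x ^ 7 + x ^ 8 + x ^ 11) (z := 1 - x ^ 2 + x ^ 4) (L := 4) (by ring) 1 (3 * 3 ^ 5 * 5 ^ 4 * 6 ^ 3 * 1 ^ 2 * 2 ^ 2 * 3 ^ 1 * 3 ^ 1)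
    (h.trans (dvd_of_eq (by ring)))
  refine h.trans (dvd_of_eq ?_)
  norm_num

theorem bound_4 (x : ℤ) (h : (-4 + x + x ^ 4 + x ^ 5 + x ^ 7 + x ^ 8 + x ^ 11) ∣
    4 * ((-1 + x) ^ 5 * (1 + x) ^ 4 * (1 + x + x ^ 2) ^ 3 * (1 + x ^ 2) ^ 2 * (1 - x + x ^ 2) ^ 2 * (1 + x ^ 4) ^ 1 * (1 + x ^ 3 + x ^ 6) ^ 1 * (1 - x ^ 2 + x ^ 4) ^ 1)) :
    (-4 + x + x ^ 4 + x ^ 5 + x ^ 7 + x ^ 8 + x ^ 11) ∣ 163870801920 := by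
  replace h := kill (1) (-6 - 5 * x - 5 * x ^ 2 - 5 * x ^ 3 - 4 * x ^ 4 - 3 * x ^ 5 - 3 * x ^ 6 - 2 * x ^ 7 - x ^ 8 - x ^ 9 - x ^ 10) (k := -4 + x + x ^ 4 + x ^ 5 + x ^ 7 + x ^ 8 + x ^ 11) (z := -1 + x) (L := 2) (by ring) 5 (4 * (1 + x) ^ 4 * (1 + x + x ^ 2) ^ 3 * (1 + x ^ 2) ^ 2 * (1 - x + x ^ 2) ^ 2 * (1 + x ^ 4) ^ 1 * (1 + x ^ 3 + x ^ 6) ^ 1 * (1 - x ^ 2 + x ^ 4) ^ 1)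
    (h.trans (dvd_of_eq (by ring)))
  replace h := kill (-1) (2 - x + x ^ 2 - x ^ 3 + 2 * x ^ 4 - x ^ 5 + x ^ 6 + x ^ 8 - x ^ 9 + x ^ 10) (k := -4 + x + x ^ 4 + x ^ 5 + x ^ 7 + x ^ 8 + x ^ 11) (z := 1 + x) (L := 6) (by ring) 4 (4 * 2 ^ 5 * (1 + x + x ^ 2) ^ 3 * (1 + x ^ 2) ^ 2 * (1 - x + x ^ 2) ^ 2 * (1 + x ^ 4) ^ 1 * (1 + x ^ 3 + x ^ 6) ^ 1 * (1 - x ^ 2 + x ^ 4) ^ 1)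
    (h.trans (dvd_of_eq (by ring)))
  replace h := kill (-1) (3 - 2 * x - x ^ 2 + 3 * x ^ 3 - x ^ 4 - x ^ 5 + 2 * x ^ 6 - x ^ 8 + x ^ 9) (k := -4 + x + x ^ 4 + x ^ 5 + x ^ 7 + x ^ 8 + x ^ 11) (z := 1 + x + x ^ 2) (L := 7) (by ring) 3 (4 * 2 ^ 5 * 6 ^ 4 * (1 + x ^ 2) ^ 2 * (1 - x + x ^ 2) ^ 2 * (1 + x ^ 4) ^ 1 * (1 + x ^ 3 + x ^ 6) ^ 1 * (1 - x ^ 2 + x ^ 4) ^ 1)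
    (h.trans (dvd_of_eq (by ring)))
  replace h := kill (-1) (-2 + x + 2 * x ^ 2 - x ^ 3 - x ^ 4 + 2 * x ^ 5 + x ^ 6 - x ^ 7 + x ^ 9) (k := -4 + x + x ^ 4 + x ^ 5 + x ^ 7 + x ^ 8 + x ^ 11) (z := 1 + x ^ 2) (L := 2) (by ring) 2 (4 * 2 ^ 5 * 6 ^ 4 * 7 ^ 3 * (1 - x + x ^ 2) ^ 2 * (1 + x ^ 4) ^ 1 * (1 + x ^ 3 + x ^ 6) ^ 1 * (1 - x ^ 2 + x ^ 4) ^ 1)
    (h.trans (dvd_of_eq (by ring)))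
  replace h := kill (-1) (-1 + x ^ 2 + x ^ 3 + x ^ 4 + x ^ 5 + x ^ 8 + x ^ 9) (k := -4 + x + x ^ 4 + x ^ 5 + x ^ 7 + x ^ 8 + x ^ 11) (z := 1 - x + x ^ 2) (L := 3) (by ring) 2 (4 * 2 ^ 5 * 6 ^ 4 * 7 ^ 3 * 2 ^ 2 * (1 + x ^ 4) ^ 1 * (1 + x ^ 3 + x ^ 6) ^ 1 * (1 - x ^ 2 + x ^ 4) ^ 1)
    (h.trans (dvd_of_eq (by ring)))
  replace h := kill (-1) (x + x ^ 4 + x ^ 7) (k := -4 + x + x ^ 4 + x ^ 5 + x ^ 7 + x ^ 8 + x ^ 11) (z := 1 + x ^ 4) (L := 4) (by ring) 1 (4 * 2 ^ 5 * 6 ^ 4 * 7 ^ 3 * 2 ^ 2 * 3 ^ 2 * (1 + x ^ 3 + x ^ 6) ^ 1 * (1 - x ^ 2 + x ^ 4) ^ 1)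
    (h.trans (dvd_of_eq (by ring)))
  replace h := kill (-1) (x + x ^ 5) (k := -4 + x + x ^ 4 + x ^ 5 + x ^ 7 + x ^ 8 + x ^ 11) (z := 1 + x ^ 3 + x ^ 6) (L := 4) (by ring) 1 (4 * 2 ^ 5 * 6 ^ 4 * 7 ^ 3 * 2 ^ 2 * 3 ^ 2 * 4 ^ 1 * (1 - x ^ 2 + x ^ 4) ^ 1)
    (h.trans (dvd_of_eq (by ring)))
  replace h := kill (-1) (1 + x + x ^ 2 + x ^ 3 + x ^ 4 + x ^ 5 + x ^ 7) (k := -4 + x + x ^ 4 + x ^ 5 + x ^ 7 + x ^ 8 + x ^ 11) (z := 1 - x ^ 2 + x ^ 4) (L := 5) (by ring) 1 (4 * 2 ^ 5 * 6 ^ 4 * 7 ^ 3 * 2 ^ 2 * 3 ^ 2 * 4 ^ 1 * 4 ^ 1)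
    (h.trans (dvd_of_eq (by ring)))
  refine h.trans (dvd_of_eq ?_)
  norm_num

theorem bound_5 (x : ℤ) (h : (-5 + x + x ^ 4 + x ^ 5 + x ^ 7 + x ^ 8 + x ^ 11) ∣
    5 * ((-1 + x) ^ 5 * (1 + x) ^ 4 * (1 + x + x ^ 2) ^ 3 * (1 + x ^ 2) ^ 2 * (1 - x + x ^ 2) ^ 2 * (1 + x ^ 4) ^ 1 * (1 + x ^ 3 + x ^ 6) ^ 1 * (1 - x ^ 2 + x ^ 4) ^ 1)) :
    (-5 + x + x ^ 4 + x ^ 5 + x ^ 7 + x ^ 8 + x ^ 11) ∣ 132765696000 := by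
  replace h := kill (1) (-6 - 5 * x - 5 * x ^ 2 - 5 * x ^ 3 - 4 * x ^ 4 - 3 * x ^ 5 - 3 * x ^ 6 - 2 * x ^ 7 - x ^ 8 - x ^ 9 - x ^ 10) (k := -5 + x + x ^ 4 + x ^ 5 + x ^ 7 + x ^ 8 + x ^ 11) (z := -1 + x) (L := 1) (by ring) 5 (5 * (1 + x) ^ 4 * (1 + x + x ^ 2) ^ 3 * (1 + x ^ 2) ^ 2 * (1 - x + x ^ 2) ^ 2 * (1 + x ^ 4) ^ 1 * (1 + x ^ 3 + x ^ 6) ^ 1 * (1 - x ^ 2 + x ^ 4) ^ 1)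
    (h.trans (dvd_of_eq (by ring)))
  replace h := kill (-1) (2 - x + x ^ 2 - x ^ 3 + 2 * x ^ 4 - x ^ 5 + x ^ 6 + x ^ 8 - x ^ 9 + x ^ 10) (k := -5 + x + x ^ 4 + x ^ 5 + x ^ 7 + x ^ 8 + x ^ 11) (z := 1 + x) (L := 7) (by ring) 4 (5 * 1 ^ 5 * (1 + x + x ^ 2) ^ 3 * (1 + x ^ 2) ^ 2 * (1 - x + x ^ 2) ^ 2 * (1 + x ^ 4) ^ 1 * (1 + x ^ 3 + x ^ 6) ^ 1 * (1 - x ^ 2 + x ^ 4) ^ 1)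
    (h.trans (dvd_of_eq (by ring)))
  replace h := kill (-1) (3 - 2 * x - x ^ 2 + 3 * x ^ 3 - x ^ 4 - x ^ 5 + 2 * x ^ 6 - x ^ 8 + x ^ 9) (k := -5 + x + x ^ 4 + x ^ 5 + x ^ 7 + x ^ 8 + x ^ 11) (z := 1 + x + x ^ 2) (L := 8) (by ring) 3 (5 * 1 ^ 5 * 7 ^ 4 * (1 + x ^ 2) ^ 2 * (1 - x + x ^ 2) ^ 2 * (1 + x ^ 4) ^ 1 * (1 + x ^ 3 + x ^ 6) ^ 1 * (1 - x ^ 2 + x ^ 4) ^ 1)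
    (h.trans (dvd_of_eq (by ring)))
  replace h := kill (-1) (-2 + x + 2 * x ^ 2 - x ^ 3 - x ^ 4 + 2 * x ^ 5 + x ^ 6 - x ^ 7 + x ^ 9) (k := -5 + x + x ^ 4 + x ^ 5 + x ^ 7 + x ^ 8 + x ^ 11) (z := 1 + x ^ 2) (L := 3) (by ring) 2 (5 * 1 ^ 5 * 7 ^ 4 * 8 ^ 3 * (1 - x + x ^ 2) ^ 2 * (1 + x ^ 4) ^ 1 * (1 + x ^ 3 + x ^ 6) ^ 1 * (1 - x ^ 2 + x ^ 4) ^ 1)
    (h.trans (dvd_of_eq (by ring)))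
  replace h := kill (-1) (-1 + x ^ 2 + x ^ 3 + x ^ 4 + x ^ 5 + x ^ 8 + x ^ 9) (k := -5 + x + x ^ 4 + x ^ 5 + x ^ 7 + x ^ 8 + x ^ 11) (z := 1 - x + x ^ 2) (L := 4) (by ring) 2 (5 * 1 ^ 5 * 7 ^ 4 * 8 ^ 3 * 3 ^ 2 * (1 + x ^ 4) ^ 1 * (1 + x ^ 3 + x ^ 6) ^ 1 * (1 - x ^ 2 + x ^ 4) ^ 1)
    (h.trans (dvd_of_eq (by ring)))
  replace h := kill (-1) (x + x ^ 4 + x ^ 7) (k := -5 + x + x ^ 4 + x ^ 5 + x ^ 7 + x ^ 8 + x ^ 11) (z := 1 + x ^ 4) (L := 5) (by ring) 1 (5 * 1 ^ 5 * 7 ^ 4 * 8 ^ 3 * 3 ^ 2 * 4 ^ 2 * (1 + x ^ 3 + x ^ 6) ^ 1 * (1 - x ^ 2 + x ^ 4) ^ 1)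
    (h.trans (dvd_of_eq (by ring)))
  replace h := kill (-1) (x + x ^ 5) (k := -5 + x + x ^ 4 + x ^ 5 + x ^ 7 + x ^ 8 + x ^ 11) (z := 1 + x ^ 3 + x ^ 6) (L := 5) (by ring) 1 (5 * 1 ^ 5 * 7 ^ 4 * 8 ^ 3 * 3 ^ 2 * 4 ^ 2 * 5 ^ 1 * (1 - x ^ 2 + x ^ 4) ^ 1)
    (h.trans (dvd_of_eq (by ring)))
  replace h := kill (-1) (1 + x + x ^ 2 + x ^ 3 + x ^ 4 + x ^ 5 + x ^ 7) (k := -5 + x + x ^ 4 + x ^ 5 + x ^ 7 + x ^ 8 + x ^ 11) (z := 1 - x ^ 2 + x ^ 4) (L := 6) (by ring) 1 (5 * 1 ^ 5 * 7 ^ 4 * 8 ^ 3 * 3 ^ 2 * 4 ^ 2 * 5 ^ 1 * 5 ^ 1)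
    (h.trans (dvd_of_eq (by ring)))
  refine h.trans (dvd_of_eq ?_)
  norm_num

theorem bound_6 (x : ℤ) (h : (-6 + x + x ^ 4 + x ^ 5 + x ^ 7 + x ^ 8 + x ^ 11) ∣
    6 * ((-1 + x) ^ 5 * (1 + x) ^ 4 * (1 + x + x ^ 2) ^ 3 * (1 + x ^ 2) ^ 2 * (1 - x + x ^ 2) ^ 2 * (1 + x ^ 4) ^ 1 * (1 + x ^ 3 + x ^ 6) ^ 1 * (1 - x ^ 2 + x ^ 4) ^ 1)) :
    (6 + 5 * x + 5 * x ^ 2 + 5 * x ^ 3 + 4 * x ^ 4 + 3 * x ^ 5 + 3 * x ^ 6 + 2 * x ^ 7 + x ^ 8 + x ^ 9 + x ^ 10) ∣ 6824829088117555200 := by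
  replace h := (Dvd.intro (-1 + x) (by ring) : (6 + 5 * x + 5 * x ^ 2 + 5 * x ^ 3 + 4 * x ^ 4 + 3 * x ^ 5 + 3 * x ^ 6 + 2 * x ^ 7 + x ^ 8 + x ^ 9 + x ^ 10) ∣ (-6 + x + x ^ 4 + x ^ 5 + x ^ 7 + x ^ 8 + x ^ 11)).trans h
  replace h := kill (1) (-30 - 25 * x - 20 * x ^ 2 - 15 * x ^ 3 - 11 * x ^ 4 - 8 * x ^ 5 - 5 * x ^ 6 - 3 * x ^ 7 - 2 * x ^ 8 - x ^ 9) (k := 6 + 5 * x + 5 * x ^ 2 + 5 * x ^ 3 + 4 * x ^ 4 + 3 * x ^ 5 + 3 * x ^ 6 + 2 * x ^ 7 + x ^ 8 + x ^ 9 + x ^ 10) (z := -1 + x) (L := 36) (by ring) 5 (6 * (1 + x) ^ 4 * (1 + x + x ^ 2) ^ 3 * (1 + x ^ 2) ^ 2 * (1 - x + x ^ 2) ^ 2 * (1 + x ^ 4) ^ 1 * (1 + x ^ 3 + x ^ 6) ^ 1 * (1 - x ^ 2 + x ^ 4) ^ 1)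
    (h.trans (dvd_of_eq (by ring)))
  replace h := kill (1) (-2 - 3 * x - 2 * x ^ 2 - 3 * x ^ 3 - x ^ 4 - 2 * x ^ 5 - x ^ 6 - x ^ 7 - x ^ 9) (k := 6 + 5 * x + 5 * x ^ 2 + 5 * x ^ 3 + 4 * x ^ 4 + 3 * x ^ 5 + 3 * x ^ 6 + 2 * x ^ 7 + x ^ 8 + x ^ 9 + x ^ 10) (z := 1 + x) (L := 4) (by ring) 4 (6 * 36 ^ 5 * (1 + x + x ^ 2) ^ 3 * (1 + x ^ 2) ^ 2 * (1 - x + x ^ 2) ^ 2 * (1 + x ^ 4) ^ 1 * (1 + x ^ 3 + x ^ 6) ^ 1 * (1 - x ^ 2 + x ^ 4) ^ 1)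
    (h.trans (dvd_of_eq (by ring)))
  replace h := kill (1 - x) (3 - 2 * x - x ^ 2 + 3 * x ^ 3 - x ^ 4 - x ^ 5 + 2 * x ^ 6 - x ^ 8 + x ^ 9) (k := 6 + 5 * x + 5 * x ^ 2 + 5 * x ^ 3 + 4 * x ^ 4 + 3 * x ^ 5 + 3 * x ^ 6 + 2 * x ^ 7 + x ^ 8 + x ^ 9 + x ^ 10) (z := 1 + x + x ^ 2) (L := 9) (by ring) 3 (6 * 36 ^ 5 * 4 ^ 4 * (1 + x ^ 2) ^ 2 * (1 - x + x ^ 2) ^ 2 * (1 + x ^ 4) ^ 1 * (1 + x ^ 3 + x ^ 6) ^ 1 * (1 - x ^ 2 + x ^ 4) ^ 1)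
    (h.trans (dvd_of_eq (by ring)))
  replace h := kill (1 - x) (-2 + x + 2 * x ^ 2 - x ^ 3 - x ^ 4 + 2 * x ^ 5 + x ^ 6 - x ^ 7 + x ^ 9) (k := 6 + 5 * x + 5 * x ^ 2 + 5 * x ^ 3 + 4 * x ^ 4 + 3 * x ^ 5 + 3 * x ^ 6 + 2 * x ^ 7 + x ^ 8 + x ^ 9 + x ^ 10) (z := 1 + x ^ 2) (L := 4) (by ring) 2 (6 * 36 ^ 5 * 4 ^ 4 * 9 ^ 3 * (1 - x + x ^ 2) ^ 2 * (1 + x ^ 4) ^ 1 * (1 + x ^ 3 + x ^ 6) ^ 1 * (1 - x ^ 2 + x ^ 4) ^ 1)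
    (h.trans (dvd_of_eq (by ring)))
  replace h := kill (1 - x) (-1 + x ^ 2 + x ^ 3 + x ^ 4 + x ^ 5 + x ^ 8 + x ^ 9) (k := 6 + 5 * x + 5 * x ^ 2 + 5 * x ^ 3 + 4 * x ^ 4 + 3 * x ^ 5 + 3 * x ^ 6 + 2 * x ^ 7 + x ^ 8 + x ^ 9 + x ^ 10) (z := 1 - x + x ^ 2) (L := 5) (by ring) 2 (6 * 36 ^ 5 * 4 ^ 4 * 9 ^ 3 * 4 ^ 2 * (1 + x ^ 4) ^ 1 * (1 + x ^ 3 + x ^ 6) ^ 1 * (1 - x ^ 2 + x ^ 4) ^ 1)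
    (h.trans (dvd_of_eq (by ring)))
  replace h := kill (1 - x) (x + x ^ 4 + x ^ 7) (k := 6 + 5 * x + 5 * x ^ 2 + 5 * x ^ 3 + 4 * x ^ 4 + 3 * x ^ 5 + 3 * x ^ 6 + 2 * x ^ 7 + x ^ 8 + x ^ 9 + x ^ 10) (z := 1 + x ^ 4) (L := 6) (by ring) 1 (6 * 36 ^ 5 * 4 ^ 4 * 9 ^ 3 * 4 ^ 2 * 5 ^ 2 * (1 + x ^ 3 + x ^ 6) ^ 1 * (1 - x ^ 2 + x ^ 4) ^ 1)
    (h.trans (dvd_of_eq (by ring)))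
  replace h := kill (1 - x) (x + x ^ 5) (k := 6 + 5 * x + 5 * x ^ 2 + 5 * x ^ 3 + 4 * x ^ 4 + 3 * x ^ 5 + 3 * x ^ 6 + 2 * x ^ 7 + x ^ 8 + x ^ 9 + x ^ 10) (z := 1 + x ^ 3 + x ^ 6) (L := 6) (by ring) 1 (6 * 36 ^ 5 * 4 ^ 4 * 9 ^ 3 * 4 ^ 2 * 5 ^ 2 * 6 ^ 1 * (1 - x ^ 2 + x ^ 4) ^ 1)
    (h.trans (dvd_of_eq (by ring)))
  replace h := kill (1 - x) (1 + x + x ^ 2 + x ^ 3 + x ^ 4 + x ^ 5 + x ^ 7) (k := 6 + 5 * x + 5 * x ^ 2 + 5 * x ^ 3 + 4 * x ^ 4 + 3 * x ^ 5 + 3 * x ^ 6 + 2 * x ^ 7 + x ^ 8 + x ^ 9 + x ^ 10) (z := 1 - x ^ 2 + x ^ 4) (L := 7) (by ring) 1 (6 * 36 ^ 5 * 4 ^ 4 * 9 ^ 3 * 4 ^ 2 * 5 ^ 2 * 6 ^ 1 * 6 ^ 1)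
    (h.trans (dvd_of_eq (by ring)))
  refine h.trans (dvd_of_eq ?_)
  norm_num

theorem small_none : ∀ q < 81, 3 ≤ q → ∀ D < 7, 1 ≤ D → bigN q % (tgt q - D) ≠ 0 := by
  decide +kernel

theorem no_dvd {q D : ℕ} (hq : IsPrimePow q) (h3 : 3 ≤ q) (h1 : 1 ≤ D) (h6 : D ≤ 6) :
    ¬ (tgt q - D) ∣ bigN q := by
  rcases lt_or_ge q 81 with hs | hs
  · exact fun h => small_none q hs h3 D (by omega) h1 (Nat.mod_eq_zero_of_dvd h)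
  intro h
  have ht : q ^ 11 + q ≤ tgt q := by unfold tgt; ring_nf; omega
  have hle : D ≤ tgt q := by omega
  have hg := gcd_pow_dvd (N := 47) hq (D := D) (k := tgt q - D)
    (fun hd => by have := Nat.le_of_dvd (by omega) hd; omega)
    (by rw [Nat.sub_add_cancel hle]; exact Dvd.intro ((q ^ 6 + q ^ 3 + 1) * (q ^ 4 + 1)) (by unfold tgt; ring))
  have h2 : tgt q - D ∣ D * ((q ^ 2 - 1) * (q ^ 6 - 1) * (q ^ 8 - 1) * (q ^ 9 - 1) * (q ^ 12 - 1)) := by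
    refine dvd_trans ?_ (Nat.mul_dvd_mul_right hg _)
    refine dvd_trans ?_ (mul_dvd_mul_left _ (Nat.gcd_dvd_right (tgt q - D) _))
    exact (Nat.dvd_gcd dvd_rfl h).trans (Nat.gcd_mul_right_dvd_mul_gcd _ _ _)
  obtain ⟨x, hx⟩ : ∃ x : ℤ, x = (q : ℤ) := ⟨_, rfl⟩
  have hx81 : (81 : ℤ) ≤ x := by omega
  have h3 := Int.natCast_dvd_natCast.2 h2
  have p : ∀ i, 1 ≤ q ^ i := fun i => Nat.one_le_pow _ _ (by omega)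
  have ek : ((tgt q - D : ℕ) : ℤ) = x * (x ^ 6 + x ^ 3 + 1) * (x ^ 4 + 1) - D := by
    rw [Nat.cast_sub hle, hx]
    simp [tgt]
  rw [ek] at h3
  push_cast [Nat.cast_sub (p 2), Nat.cast_sub (p 6), Nat.cast_sub (p 8), Nat.cast_sub (p 9),
    Nat.cast_sub (p 12), ← hx] at h3
  rw [stuff_eq] at h3
  have h9 : (81 : ℤ) ^ 9 ≤ x ^ 9 := pow_le_pow_left₀ (by norm_num) hx81 9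
  have h10 : (81 : ℤ) ^ 10 ≤ x ^ 10 := pow_le_pow_left₀ (by norm_num) hx81 10
  have st : ∀ i : ℕ, 81 * x ^ i ≤ x ^ (i + 1) := fun i => by
    rw [pow_succ' x i]; exact mul_le_mul_of_nonneg_right hx81 (by positivity)
  have s1 := st 1; have s2 := st 2; have s3 := st 3; have s4 := st 4; have s5 := st 5
  have s6 := st 6; have s7 := st 7; have s8 := st 8; have s9 := st 9; have s10 := st 10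
  have p2 : 0 ≤ x ^ 2 := by positivity
  have p3 : 0 ≤ x ^ 3 := by positivity
  have p5 : 0 ≤ x ^ 5 := by positivity
  have p6 : 0 ≤ x ^ 6 := by positivity
  have p8 : 0 ≤ x ^ 8 := by positivity
  have p11 : (81 : ℤ) ^ 11 ≤ x ^ 11 := pow_le_pow_left₀ (by norm_num) hx81 11
  norm_num at h9 h10 p11 s1 s2 s3 s4 s5 s6 s7 s8 s9 s10
  interval_cases D
  · have := Int.le_of_dvd (by norm_num) (bound_1 x (by convert h3 using 1 <;> first | rfl | (push_cast; ring)))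
    linarith
  · have := Int.le_of_dvd (by norm_num) (bound_2 x (by convert h3 using 1 <;> first | rfl | (push_cast; ring)))
    linarith
  · have := Int.le_of_dvd (by norm_num) (bound_3 x (by convert h3 using 1 <;> first | rfl | (push_cast; ring)))
    linarith
  · have := Int.le_of_dvd (by norm_num) (bound_4 x (by convert h3 using 1 <;> first | rfl | (push_cast; ring)))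
    linarith
  · have := Int.le_of_dvd (by norm_num) (bound_5 x (by convert h3 using 1 <;> first | rfl | (push_cast; ring)))
    linarith
  · have := Int.le_of_dvd (by norm_num) (bound_6 x (by convert h3 using 1 <;> first | rfl | (push_cast; ring)))
    linarith

theorem no_dvd_two : ∀ D < 18, 1 ≤ D → bigN 2 % (tgt 2 - D) ≠ 0 := by decide +kernel

end CfsgLib.ESixDegree
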