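import Cfsg.Agent.RootWeight.ClassSize
import Cfsg.Prelude.Def_ChevE6

/-!
# The orbit of the roots with coefficient one at the last node under the Levi roots centralizing the
highest root (generated, checked by the kernel)
-/

set_option autoImplicit false
set_option maxRecDepth 100000
set_option maxHeartbeats 2000000

namespace CfsgLib.ESixDegree

open Cfsg.Lie CfsgLib.RootWeight

/-- The abelian set. -/
def Yh : Fin 5 → ℕ := fun i => ([36, 38, 41, 45, 60] : List ℕ).getD i 0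

/-- Roots orthogonal to the highest one. -/
def alh : Fin 20 → ℕ := fun i => ([12, 13, 14, 15, 27, 28, 29, 31, 32, 34, 37, 39, 40, 42, 43, 44, 56, 57, 58, 59] : List ℕ).getD i 0

/-- The moves. -/
def Ph : List (Pairs 5) :=
  [[(0, 4, -1)], [(1, 4, -1)], [(2, 4, -1)], [(3, 4, -1)], [(0, 3, -1)], [(1, 3, -1)], [(2, 3, -1)], [(0, 2, -1)], [(1, 2, -1)], [(0, 1, -1)], [(1, 0, -1)], [(2, 1, -1)], [(2, 0, -1)], [(3, 2, -1)], [(3, 1, -1)], [(3, 0, -1)], [(4, 3, -1)], [(4, 2, -1)], [(4, 1, -1)], [(4, 0, -1)]]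

/-- The neighbours. -/
def nbh : List (List (Ent 20 5)) :=
  [[(10, 1, -1), (12, 2, -1), (15, 3, -1), (19, 4, -1)], [(9, 0, -1), (11, 2, -1), (14, 3, -1), (18, 4, -1)], [(7, 0, -1), (8, 1, -1), (13, 3, -1), (17, 4, -1)], [(4, 0, -1), (5, 1, -1), (6, 2, -1), (16, 4, -1)], [(0, 0, -1), (1, 1, -1), (2, 2, -1), (3, 3, -1)]]

/-- The tables. -/
def tabh : Tab 5 20 where
  P k := Ph.getD k []
  nb i := nbh.getD i []
  bt _ _ := []

theorem okh : tabh.Ok 4 := by decide +kernel

theorem linkh : LinkOk chevE6 (List.range 72) Yh alh tabh.flip := by decide +kernel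

theorem orthh : ∀ k, alh k ≠ 71 ∧ alh k ≠ CfsgLib.Chevalley.opp chevE6 71 ∧ chevE6.commTerms 71 (alh k) = [] := by
  decide +kernel

end CfsgLib.ESixDegree
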