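import Cfsg.Agent.RootWeight.ClassSize
import Cfsg.Prelude.Def_ChevE6

/-!
# The orbit of the roots with coefficient one at the fifth node under the Levi roots centralizing the
highest root (generated, checked by the kernel)
-/

set_option autoImplicit false
set_option maxRecDepth 100000
set_option maxHeartbeats 2000000

namespace CfsgLib.ESixDegree

open Cfsg.Lie CfsgLib.RootWeight

/-- The abelian set. -/
def Yh2 : Fin 4 → ℕ := fun i => ([37, 40, 44, 59] : List ℕ).getD i 0

/-- Roots orthogonal to the highest one. -/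
def alh2 : Fin 12 → ℕ := fun i => ([13, 14, 15, 28, 29, 32, 39, 42, 43, 56, 57, 58] : List ℕ).getD i 0

/-- The moves. -/
def Ph2 : List (Pairs 4) :=
  [[(0, 3, -1)], [(1, 3, -1)], [(2, 3, -1)], [(0, 2, -1)], [(1, 2, -1)], [(0, 1, -1)], [(1, 0, -1)], [(2, 1, -1)], [(2, 0, -1)], [(3, 2, -1)], [(3, 1, -1)], [(3, 0, -1)]]

/-- The neighbours. -/
def nbh2 : List (List (Ent 12 4)) :=
  [[(6, 1, -1), (8, 2, -1), (11, 3, -1)], [(5, 0, -1), (7, 2, -1), (10, 3, -1)], [(3, 0, -1), (4, 1, -1), (9, 3, -1)], [(0, 0, -1), (1, 1, -1), (2, 2, -1)]]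

/-- The tables. -/
def tabh2 : Tab 4 12 where
  P k := Ph2.getD k []
  nb i := nbh2.getD i []
  bt _ _ := []

theorem okh2 : tabh2.Ok 3 := by decide +kernel

theorem linkh2 : LinkOk chevE6 (List.range 72) Yh2 alh2 tabh2.flip := by decide +kernel

theorem orthh2 : ∀ k, alh2 k ≠ 71 ∧ alh2 k ≠ CfsgLib.Chevalley.opp chevE6 71 ∧ chevE6.commTerms 71 (alh2 k) = [] := by
  decide +kernel

end CfsgLib.ESixDegree
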