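import Cfsg.Agent.ESixDegree.Tables
import Cfsg.Agent.RootWeight.GroupOps

/-!
# The levels of the chain in `E₆`, at least three field elements

Each level has at least the number of weights expected, less six in all.
-/

set_option autoImplicit false

namespace CfsgLib.ESixDegree

open Module Cfsg.Lie CfsgLib.RootWeight

theorem loa0 : ∀ μ : Fin 16,
    (taba0.Lo μ).card = ([10, 9, 8, 7, 7, 6, 6, 5, 5, 4, 4, 3, 3, 2, 1, 0] : List ℕ).getD μ 0 := by
  decide +kernel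

theorem loa1 : ∀ μ : Fin 10, (taba1.Lo μ).card = ([6, 5, 4, 4, 3, 3, 2, 2, 1, 0] : List ℕ).getD μ 0 := by
  decide +kernel

theorem loa2 : ∀ μ : Fin 4, (taba2.Lo μ).card = ([3, 2, 1, 0] : List ℕ).getD μ 0 := by decide +kernel

theorem loa3 : ∀ μ : Fin 3, (taba3.Lo μ).card = ([2, 1, 0] : List ℕ).getD μ 0 := by decide +kernel

theorem loa4 : ∀ μ : Fin 2, (taba4.Lo μ).card = ([1, 0] : List ℕ).getD μ 0 := by decide +kernel

section

variable {m K d : ℕ} {𝕋 : Tab m K} {F : Type*} [Field F] [Fintype F]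

open Classical in
/-- The number of cells. -/
theorem card_Par (h : 𝕋.Ok d) :
    Fintype.card (𝕋.Par F) = (Fintype.card F - 1) * ∑ μ : Fin m, Fintype.card F ^ (𝕋.Lo μ).card := by
  simpa using h.card_par (F := F) fun _ => True

end

variable {F : Type*} [Field F] [Fintype F] {W : Type*} [AddCommGroup W] [Module ℂ W]
  [FiniteDimensional ℂ W] {ψ : AddChar F ℂ} (hψ : ψ.IsPrimitive) (hq : 3 ≤ Fintype.card F)
include hψ hq

theorem low4 (R : RRep chevE6 F W (List.ofFn ala3)) (hnt : ∃ t, R.T 38 t ≠ 1) :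
    (Fintype.card F : ℤ) ^ 2 + Fintype.card F - 2 ≤ finrank ℂ W := by
  classical
  set q := Fintype.card F with hqdef
  obtain ⟨t, ht⟩ := hnt
  have hP : Fintype.card (taba4.Par F) + 1 = q ^ 2 := by
    rw [card_Par oka4, ← hqdef]
    simp only [loa4, Fin.sum_univ_succ, Fin.sum_univ_zero]
    obtain ⟨x, hx⟩ : ∃ x, q = x + 1 := ⟨q - 1, by omega⟩
    rw [hx]
    simp
    ring
  have hq' : (3 : ℤ) ≤ q := by exact_mod_cast hq
  have hP' : (Fintype.card (taba4.Par F) : ℤ) + 1 = (q : ℤ) ^ 2 := by exact_mod_cast hP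
  rcases R.step linka4 oka4 hψ ⟨0, t, ht⟩ with h | h | ⟨hE, h⟩
  · have : (q : ℤ) ^ 3 ≤ finrank ℂ W := by exact_mod_cast h
    nlinarith
  · have : 2 * (Fintype.card (taba4.Par F) : ℤ) ≤ finrank ℂ W := by exact_mod_cast h
    nlinarith
  · have h5 := (R.next linka4 oka4.1 ψ).last hψ (ala4 1) fun u hu => by
      rw [R.next_trace linka4 oka4 hψ hE sidea4 _ adja4
        (phase_of_tor R linka4 oka4 tora4 tora4_ok sidea4.1 (by omega)) hu, Finset.sum_filter,
        Fin.sum_univ_succ, Fin.sum_univ_succ, Fin.sum_univ_zero]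
      simp only [loa4, ← hqdef]
      rw [Nat.cast_mul, Nat.cast_sub (by omega)]
      simp
      ring
    have h5' : (q : ℤ) - 1 ≤ finrank ℂ (LinearMap.range (pr ψ (R.P linka4) 0)) := by omega
    have h' : (finrank ℂ W : ℤ) = finrank ℂ (LinearMap.range (pr ψ (R.P linka4) 0)) +
        Fintype.card (taba4.Par F) := by exact_mod_cast h
    linarith

theorem low3 (R : RRep chevE6 F W (List.ofFn ala2)) (hnt : ∃ t, R.T 41 t ≠ 1) :
    (Fintype.card F : ℤ) ^ 3 + (Fintype.card F : ℤ) ^ 2 + Fintype.card F - 3 ≤ finrank ℂ W := by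
  classical
  set q := Fintype.card F with hqdef
  obtain ⟨t, ht⟩ := hnt
  have hP : Fintype.card (taba3.Par F) + 1 = q ^ 3 := by
    rw [card_Par oka3, ← hqdef]
    simp only [loa3, Fin.sum_univ_succ, Fin.sum_univ_zero]
    obtain ⟨x, hx⟩ : ∃ x, q = x + 1 := ⟨q - 1, by omega⟩
    rw [hx]
    simp
    ring
  have hq' : (3 : ℤ) ≤ q := by exact_mod_cast hq
  have hP' : (Fintype.card (taba3.Par F) : ℤ) + 1 = (q : ℤ) ^ 3 := by exact_mod_cast hP
  have hq2 : 3 * (q : ℤ) ≤ (q : ℤ) ^ 2 := by nlinarith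
  have hq3 : 3 * (q : ℤ) ^ 2 ≤ (q : ℤ) ^ 3 := by nlinarith
  rcases R.step linka3 oka3 hψ ⟨0, t, ht⟩ with h | h | ⟨hE, h⟩
  · have : (q : ℤ) ^ 4 ≤ finrank ℂ W := by exact_mod_cast h
    nlinarith
  · have : 2 * (Fintype.card (taba3.Par F) : ℤ) ≤ finrank ℂ W := by exact_mod_cast h
    nlinarith
  · have hn := R.next_nontrivial linka3 oka3 hψ hE sidea3 _ adja3
      (phase_of_tor R linka3 oka3 tora3 tora3_ok sidea3.1 (by omega)) (by
        rw [Finset.sum_filter]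
        simp only [loa3, Fin.sum_univ_succ, Fin.sum_univ_zero, ← hqdef]
        obtain ⟨x, hx⟩ : ∃ x, q = x + 1 := ⟨q - 1, by omega⟩
        rw [hx]
        simp [pow_succ]
        nlinarith)
    have h5 := low4 hψ hq (R.next linka3 oka3.1 ψ) hn
    have h' : (finrank ℂ W : ℤ) = finrank ℂ (LinearMap.range (pr ψ (R.P linka3) 0)) +
        Fintype.card (taba3.Par F) := by exact_mod_cast h
    linarith

theorem low2 (R : RRep chevE6 F W (List.ofFn ala1)) (hnt : ∃ t, R.T 45 t ≠ 1) :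
    (Fintype.card F : ℤ) ^ 4 + (Fintype.card F : ℤ) ^ 3 + (Fintype.card F : ℤ) ^ 2 + Fintype.card F - 4 ≤
      finrank ℂ W := by
  classical
  set q := Fintype.card F with hqdef
  obtain ⟨t, ht⟩ := hnt
  have hP : Fintype.card (taba2.Par F) + 1 = q ^ 4 := by
    rw [card_Par oka2, ← hqdef]
    simp only [loa2, Fin.sum_univ_succ, Fin.sum_univ_zero]
    obtain ⟨x, hx⟩ : ∃ x, q = x + 1 := ⟨q - 1, by omega⟩
    rw [hx]
    simp
    ring
  have hq' : (3 : ℤ) ≤ q := by exact_mod_cast hq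
  have hP' : (Fintype.card (taba2.Par F) : ℤ) + 1 = (q : ℤ) ^ 4 := by exact_mod_cast hP
  have hq2 : 3 * (q : ℤ) ≤ (q : ℤ) ^ 2 := by nlinarith
  have hq3 : 3 * (q : ℤ) ^ 2 ≤ (q : ℤ) ^ 3 := by nlinarith
  have hq4 : 3 * (q : ℤ) ^ 3 ≤ (q : ℤ) ^ 4 := by nlinarith
  rcases R.step linka2 oka2 hψ ⟨0, t, ht⟩ with h | h | ⟨hE, h⟩
  · have : (q : ℤ) ^ 5 ≤ finrank ℂ W := by exact_mod_cast h
    nlinarith
  · have : 2 * (Fintype.card (taba2.Par F) : ℤ) ≤ finrank ℂ W := by exact_mod_cast h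
    nlinarith
  · have hn := R.next_nontrivial linka2 oka2 hψ hE sidea2 _ adja2
      (phase_of_tor R linka2 oka2 tora2 tora2_ok sidea2.1 (by omega)) (by
        rw [Finset.sum_filter]
        simp only [loa2, Fin.sum_univ_succ, Fin.sum_univ_zero, ← hqdef]
        obtain ⟨x, hx⟩ : ∃ x, q = x + 1 := ⟨q - 1, by omega⟩
        rw [hx]
        simp [pow_succ]
        nlinarith)
    have h5 := low3 hψ hq (R.next linka2 oka2.1 ψ) hn
    have h' : (finrank ℂ W : ℤ) = finrank ℂ (LinearMap.range (pr ψ (R.P linka2) 0)) +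
        Fintype.card (taba2.Par F) := by exact_mod_cast h
    linarith

theorem low1 (R : RRep chevE6 F W (List.ofFn ala0)) (hnt : ∃ t, R.T 55 t ≠ 1) :
    (Fintype.card F : ℤ) ^ 7 + (Fintype.card F : ℤ) ^ 5 + (Fintype.card F : ℤ) ^ 4 +
      (Fintype.card F : ℤ) ^ 3 + Fintype.card F - 5 ≤ finrank ℂ W := by
  classical
  set q := Fintype.card F with hqdef
  obtain ⟨t, ht⟩ := hnt
  have hP : Fintype.card (taba1.Par F) + q ^ 2 + 1 = q ^ 7 + q ^ 5 := by
    rw [card_Par oka1, ← hqdef]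
    simp only [loa1, Fin.sum_univ_succ, Fin.sum_univ_zero]
    obtain ⟨x, hx⟩ : ∃ x, q = x + 1 := ⟨q - 1, by omega⟩
    rw [hx]
    simp
    ring
  have hq' : (3 : ℤ) ≤ q := by exact_mod_cast hq
  have hP' : (Fintype.card (taba1.Par F) : ℤ) + (q : ℤ) ^ 2 + 1 = (q : ℤ) ^ 7 + (q : ℤ) ^ 5 := by
    exact_mod_cast hP
  have hq2 : 3 * (q : ℤ) ≤ (q : ℤ) ^ 2 := by nlinarith
  have hq3 : 3 * (q : ℤ) ^ 2 ≤ (q : ℤ) ^ 3 := by nlinarith
  have hq4 : 3 * (q : ℤ) ^ 3 ≤ (q : ℤ) ^ 4 := by nlinarith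
  have hq5 : 3 * (q : ℤ) ^ 4 ≤ (q : ℤ) ^ 5 := by nlinarith
  have hq7 : 9 * (q : ℤ) ^ 5 ≤ (q : ℤ) ^ 7 := by nlinarith
  rcases R.step linka1 oka1 hψ ⟨0, t, ht⟩ with h | h | ⟨hE, h⟩
  · have : (q : ℤ) ^ 8 ≤ finrank ℂ W := by exact_mod_cast h
    have h8 : 3 * (q : ℤ) ^ 7 ≤ (q : ℤ) ^ 8 := by nlinarith
    linarith
  · have : 2 * (Fintype.card (taba1.Par F) : ℤ) ≤ finrank ℂ W := by exact_mod_cast h
    linarith
  · have hn := R.next_nontrivial linka1 oka1 hψ hE sidea1 _ adja1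
      (phase_of_tor R linka1 oka1 tora1 tora1_ok sidea1.1 (by omega)) (by
        rw [Finset.sum_filter]
        simp only [loa1, Fin.sum_univ_succ, Fin.sum_univ_zero, ← hqdef]
        obtain ⟨x, hx⟩ : ∃ x, q = x + 1 := ⟨q - 1, by omega⟩
        rw [hx]
        simp [pow_succ]
        intro h0
        nlinarith [pow_pos (Nat.succ_pos x) 4])
    have h5 := low2 hψ hq (R.next linka1 oka1.1 ψ) hn
    have h' : (finrank ℂ W : ℤ) = finrank ℂ (LinearMap.range (pr ψ (R.P linka1) 0)) +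
        Fintype.card (taba1.Par F) := by exact_mod_cast h
    linarith

open Classical in
/-- The whole representation: large, or exact at the top and at least the target less six. -/
theorem low0 (R : RRep chevE6 F W (List.range 72)) (hnt : ∃ t, R.T 71 t ≠ 1) :
    (Fintype.card F : ℤ) * ((Fintype.card F : ℤ) ^ 6 + (Fintype.card F : ℤ) ^ 3 + 1) *
        ((Fintype.card F : ℤ) ^ 4 + 1) ≤ finrank ℂ W ∨
      (Exact ψ taba0 (R.P linka0) ∧
        (Fintype.card F : ℤ) * ((Fintype.card F : ℤ) ^ 6 + (Fintype.card F : ℤ) ^ 3 + 1) *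
          ((Fintype.card F : ℤ) ^ 4 + 1) - 6 ≤ finrank ℂ W) := by
  set q := Fintype.card F with hqdef
  obtain ⟨t, ht⟩ := hnt
  have hP : Fintype.card (taba0.Par F) + q ^ 3 + 1 = q ^ 11 + q ^ 8 := by
    rw [card_Par oka0, ← hqdef]
    simp only [loa0, Fin.sum_univ_succ, Fin.sum_univ_zero]
    obtain ⟨x, hx⟩ : ∃ x, q = x + 1 := ⟨q - 1, by omega⟩
    rw [hx]
    simp
    ring
  have hq' : (3 : ℤ) ≤ q := by exact_mod_cast hq
  have hP' : (Fintype.card (taba0.Par F) : ℤ) + (q : ℤ) ^ 3 + 1 = (q : ℤ) ^ 11 + (q : ℤ) ^ 8 := by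
    exact_mod_cast hP
  have hq1 : (q : ℤ) * ((q : ℤ) ^ 6 + (q : ℤ) ^ 3 + 1) * ((q : ℤ) ^ 4 + 1) =
      (q : ℤ) ^ 11 + (q : ℤ) ^ 8 + (q : ℤ) ^ 7 + (q : ℤ) ^ 5 + (q : ℤ) ^ 4 + q := by ring
  rw [hq1]
  have st : ∀ i : ℕ, 3 * (q : ℤ) ^ i ≤ (q : ℤ) ^ (i + 1) := fun i => by
    rw [pow_succ' (q : ℤ) i]; exact mul_le_mul_of_nonneg_right hq' (by positivity)
  have s1 := st 1; have s2 := st 2; have s3 := st 3; have s4 := st 4; have s5 := st 5
  have s6 := st 6; have s7 := st 7; have s8 := st 8; have s9 := st 9; have s10 := st 10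
  have s11 := st 11
  have s0 : (q : ℤ) ^ 1 = q := pow_one _
  norm_num only at s1 s2 s3 s4 s5 s6 s7 s8 s9 s10 s11
  rcases R.step linka0 oka0 hψ ⟨0, t, ht⟩ with h | h | ⟨hE, h⟩
  · have : (q : ℤ) ^ 12 ≤ finrank ℂ W := by exact_mod_cast h
    exact Or.inl (by linarith)
  · have : 2 * (Fintype.card (taba0.Par F) : ℤ) ≤ finrank ℂ W := by exact_mod_cast h
    exact Or.inl (by linarith)
  · have hn := R.next_nontrivial linka0 oka0 hψ hE sidea0 _ adja0
      (phase_of_com R linka0 oka0 coma0 coma0_ok) (by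
        rw [Finset.sum_filter]
        simp only [loa0, Fin.sum_univ_succ, Fin.sum_univ_zero, ← hqdef]
        obtain ⟨x, hx⟩ : ∃ x, q = x + 1 := ⟨q - 1, by omega⟩
        rw [hx]
        simp
        intro h0
        have h7 : 0 < (x + 1) ^ 7 := pow_pos (Nat.succ_pos x) 7
        nlinarith)
    have h5 := low1 hψ hq (R.next linka0 oka0.1 ψ) hn
    have h' : (finrank ℂ W : ℤ) = finrank ℂ (LinearMap.range (pr ψ (R.P linka0) 0)) +
        Fintype.card (taba0.Par F) := by exact_mod_cast h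
    exact Or.inr ⟨hE, by linarith⟩

end CfsgLib.ESixDegree
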