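import Cfsg.Agent.ESixDegree.Levels
import Cfsg.Agent.ESixDegree.Arith
import Cfsg.Agent.ESixDegree.ClassTables
import Cfsg.Agent.Characters.Integrality
import Cfsg.Agent.RepBounds.FieldChar
import Cfsg.Agent.S1054
import Cfsg.Agent.S1063

/-!
# The degrees of `E₆(q)` for at least three field elements
-/

set_option autoImplicit false

namespace CfsgLib.ESixDegree

open Module Cfsg.Lie CfsgLib.RootWeight CfsgLib.Chevalley

theorem goodW : GoodWeyl chevE6 := goodWeyl_of_mem (by simp)

theorem simple_group (F : Type*) [Field F] : IsSimpleGroup ↥(chevE6.group F) :=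
  (Cfsg.Agent.S1054.result chevE6 (by simp)).1

variable {F : Type*} [Field F] [Fintype F]

/-- The root element of the highest root. -/
noncomputable def topEl : chevE6.group F := xG goodW ⟨71, by decide +kernel⟩ 1

/-- The index of the centralizer of the highest root element. -/
theorem index_dvd :
    (Subgroup.centralizer ({topEl} : Set (chevE6.group F))).index ∣
      Fintype.card F ^ 36 * ((Fintype.card F ^ 2 - 1) * (Fintype.card F ^ 6 - 1) *
        (Fintype.card F ^ 8 - 1) * (Fintype.card F ^ 9 - 1) * (Fintype.card F ^ 12 - 1)) := by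
  set q := Fintype.card F with hq
  have h5 : q ^ 5 - 1 ∣ Nat.card (Subgroup.centralizer ({topEl} : Set (chevE6.group F))) :=
    card_dvd_centralizer goodW okh linkh (by norm_num) 0 ⟨71, by decide +kernel⟩ orthh
  have hpos : 0 < q ^ 5 - 1 := by
    have : 1 < q ^ 5 := Nat.one_lt_pow (by norm_num) Fintype.one_lt_card
    omega
  refine (Nat.mul_dvd_mul_iff_right hpos).1 ((Nat.mul_dvd_mul_left _ h5).trans ?_)
  rw [Subgroup.index_mul_card]
  refine (dvd_mul_left _ (Nat.gcd 3 (q - 1))).trans (dvd_of_eq ?_)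
  rw [Cfsg.Agent.S1063.result (F := F) hq.symm]
  ring

open Classical in
/-- In the exact case the degree divides the class size times `q¹¹`. -/
theorem dvd_of_exact {ψ : AddChar F ℂ} (hψ : ψ.IsPrimitive) (k : ℕ)
    (ρ : Representation ℂ (chevE6.group F) (Fin k → ℂ)) (hρ : ρ.IsIrreducible) (hk : 2 ≤ k)
    (hE : Exact ψ taba0 ((ofRep goodW ρ).P linka0)) :
    k ∣ (Subgroup.centralizer ({topEl} : Set (chevE6.group F))).index * Fintype.card F ^ 11 := by
  haveI := hρ
  set q := Fintype.card F with hqdef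
  have hfr : finrank ℂ (Fin k → ℂ) = k := Module.finrank_fin_fun ℂ
  have hχ : (k : ℂ) - ρ.character topEl = (q : ℂ) ^ 11 := by
    have := trace_coord hψ ((ofRep goodW ρ).rel linka0 oka0.1) oka0 hE 0 (one_ne_zero (α := F))
    have e : (ofRep goodW ρ).P linka0 (Pi.single 0 1) = ρ topEl :=
      ((ofRep goodW ρ).P_single linka0 0 1).trans (ofRep_T goodW ρ (r := 71) (by decide +kernel) 1)
    rw [hfr] at this
    exact (congrArg (fun X => (k : ℂ) - LinearMap.trace ℂ (Fin k → ℂ) X) e).symm.trans this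
  show k ∣ (Subgroup.centralizer ({topEl} : Set (chevE6.group F))).index * q ^ 11
  refine Characters.dvd_of_isIntegral_div (by omega) ?_
  set K := (Subgroup.centralizer ({topEl} : Set (chevE6.group F))).index with hK
  have hint := Characters.isIntegral_index_mul_char_div ρ (topEl : chevE6.group F)
  rw [← hK, hfr] at hint
  have h2 := (isIntegral_algebraMap (R := ℤ) (A := ℂ) (x := (K : ℤ))).sub hint
  have hne : (k : ℂ) ≠ 0 := Nat.cast_ne_zero.2 (by omega)
  have heq : ((K * q ^ 11 : ℕ) : ℂ) / (k : ℂ) =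
      algebraMap ℤ ℂ (K : ℤ) - (K : ℂ) * ρ.character topEl / (k : ℂ) := by
    rw [Nat.cast_mul, Nat.cast_pow, ← hχ]
    simp
    field_simp
  rw [heq]
  exact h2

/-- At least the target for at least three field elements. -/
theorem bound_three (hq : 3 ≤ Fintype.card F) (k : ℕ)
    (ρ : Representation ℂ (chevE6.group F) (Fin k → ℂ)) (hρ : ρ.IsIrreducible) (hk : 2 ≤ k) :
    Fintype.card F * (Fintype.card F ^ 6 + Fintype.card F ^ 3 + 1) * (Fintype.card F ^ 4 + 1) ≤ k := by
  classical
  haveI := hρ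
  set q := Fintype.card F with hqdef
  obtain ⟨p, hp⟩ := CharP.exists F
  haveI : Fact p.Prime := ⟨CharP.char_is_prime F p⟩
  obtain ⟨ψ, hψ, -⟩ := RepBounds.exists_frobenius_char F p
  have hfr : finrank ℂ (Fin k → ℂ) = k := Module.finrank_fin_fun ℂ
  have hT := ofRep_ne_one goodW (simple_group F) ρ hρ (by rwa [hfr]) (r := 71) (by decide +kernel)
  by_contra hlt
  rw [not_le] at hlt
  rcases low0 hψ hq (ofRep goodW ρ) ⟨1, hT⟩ with h | ⟨hE, h⟩
  · rw [hfr] at h
    have : (q * (q ^ 6 + q ^ 3 + 1) * (q ^ 4 + 1) : ℕ) ≤ k := by exact_mod_cast h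
    omega
  · rw [hfr] at h
    have hle : q * (q ^ 6 + q ^ 3 + 1) * (q ^ 4 + 1) ≤ k + 6 := by
      have : ((q * (q ^ 6 + q ^ 3 + 1) * (q ^ 4 + 1) : ℕ) : ℤ) ≤ (k : ℤ) + 6 := by
        push_cast
        linarith
      exact_mod_cast this
    have hdvd := dvd_of_exact hψ k ρ hρ hk hE
    obtain ⟨D, hD1, hD6, rfl⟩ : ∃ D, 1 ≤ D ∧ D ≤ 6 ∧ k = tgt q - D :=
      ⟨tgt q - k, by unfold tgt; omega, by unfold tgt; omega, by unfold tgt; omega⟩
    refine no_dvd (FiniteField.isPrimePow_card F) hq hD1 hD6 (hdvd.trans ?_)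
    refine (Nat.mul_dvd_mul_right index_dvd _).trans (dvd_of_eq ?_)
    rw [bigN]
    ring

end CfsgLib.ESixDegree
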