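import Cfsg.Agent.RootWeight.Chain
import Cfsg.Prelude.Def_ChevE6

/-!
# The tables of the chains of parabolic radicals of `E₆` (generated, checked by the kernel)
-/

set_option autoImplicit false
set_option maxRecDepth 100000
set_option maxHeartbeats 4000000

namespace CfsgLib.ESixDegree

open Cfsg.Lie CfsgLib.RootWeight

/-- Roots of the abelian set, step a0. -/
def Ya0 : Fin 16 → ℕ := fun i => ([71, 70, 69, 66, 68, 65, 67, 63, 64, 60, 62, 59, 61, 58, 57, 56] : List ℕ).getD i 0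

/-- Roots of the next Levi set, step a0. -/
def ala0 : Fin 40 → ℕ := fun i => ([16, 17, 18, 19, 20, 21, 22, 23, 24, 25, 26, 27, 28, 29, 30, 31, 32, 33, 34, 35, 36, 37, 38, 39, 40, 41, 42, 43, 44, 45, 46, 47, 48, 49, 50, 51, 52, 53, 54, 55] : List ℕ).getD i 0

/-- The moves, step a0. -/
def Pa0 : List (Pairs 16) :=
  [[(0, 12, 1), (1, 13, 1), (2, 14, 1), (3, 15, 1)],
    [(0, 10, -1), (1, 11, -1), (4, 14, 1), (5, 15, 1)],
    [(0, 7, 1), (1, 9, 1), (6, 14, 1), (8, 15, 1)],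
    [(0, 8, 1), (2, 11, -1), (4, 13, -1), (7, 15, 1)],
    [(0, 5, -1), (2, 9, 1), (6, 13, -1), (10, 15, 1)],
    [(0, 3, 1), (4, 9, 1), (6, 11, 1), (12, 15, 1)],
    [(0, 6, -1), (3, 11, -1), (5, 13, -1), (7, 14, -1)],
    [(0, 4, 1), (3, 9, 1), (8, 13, -1), (10, 14, -1)],
    [(0, 2, -1), (5, 9, 1), (8, 11, 1), (12, 14, -1)],
    [(0, 1, 1), (7, 9, 1), (10, 11, 1), (12, 13, 1)],
    [(1, 8, 1), (2, 10, 1), (4, 12, 1), (9, 15, 1)],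
    [(1, 5, -1), (2, 7, -1), (6, 12, 1), (11, 15, 1)],
    [(1, 3, 1), (4, 7, -1), (6, 10, -1), (13, 15, 1)],
    [(2, 3, 1), (4, 5, 1), (6, 8, 1), (14, 15, 1)],
    [(1, 6, 1), (3, 10, -1), (5, 12, -1), (9, 14, 1)],
    [(1, 4, -1), (3, 7, 1), (8, 12, -1), (11, 14, 1)],
    [(1, 2, 1), (5, 7, 1), (8, 10, 1), (13, 14, 1)],
    [(2, 6, -1), (3, 8, -1), (7, 12, 1), (9, 13, 1)],
    [(2, 4, 1), (3, 5, 1), (10, 12, 1), (11, 13, 1)],
    [(4, 6, 1), (5, 8, 1), (7, 10, 1), (9, 11, 1)],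
    [(6, 4, 1), (8, 5, 1), (10, 7, 1), (11, 9, 1)],
    [(4, 2, 1), (5, 3, 1), (12, 10, 1), (13, 11, 1)],
    [(6, 2, -1), (8, 3, -1), (12, 7, 1), (13, 9, 1)],
    [(2, 1, 1), (7, 5, 1), (10, 8, 1), (14, 13, 1)],
    [(4, 1, -1), (7, 3, 1), (12, 8, -1), (14, 11, 1)],
    [(6, 1, 1), (10, 3, -1), (12, 5, -1), (14, 9, 1)],
    [(3, 2, 1), (5, 4, 1), (8, 6, 1), (15, 14, 1)],
    [(3, 1, 1), (7, 4, -1), (10, 6, -1), (15, 13, 1)],
    [(5, 1, -1), (7, 2, -1), (12, 6, 1), (15, 11, 1)],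
    [(8, 1, 1), (10, 2, 1), (12, 4, 1), (15, 9, 1)],
    [(1, 0, 1), (9, 7, 1), (11, 10, 1), (13, 12, 1)],
    [(2, 0, -1), (9, 5, 1), (11, 8, 1), (14, 12, -1)],
    [(4, 0, 1), (9, 3, 1), (13, 8, -1), (14, 10, -1)],
    [(6, 0, -1), (11, 3, -1), (13, 5, -1), (14, 7, -1)],
    [(3, 0, 1), (9, 4, 1), (11, 6, 1), (15, 12, 1)],
    [(5, 0, -1), (9, 2, 1), (13, 6, -1), (15, 10, 1)],
    [(8, 0, 1), (11, 2, -1), (13, 4, -1), (15, 7, 1)],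
    [(7, 0, 1), (9, 1, 1), (14, 6, 1), (15, 8, 1)],
    [(10, 0, -1), (11, 1, -1), (14, 4, 1), (15, 5, 1)],
    [(12, 0, 1), (13, 1, 1), (14, 2, 1), (15, 3, 1)]]

/-- The neighbours, step a0. -/
def nba0 : List (List (Ent 40 16)) :=
  [[(30, 1, 1), (31, 2, -1), (32, 4, 1), (33, 6, -1), (34, 3, 1), (35, 5, -1), (36, 8, 1), (37, 7, 1), (38, 10, -1), (39, 12, 1)],
    [(9, 0, 1), (23, 2, 1), (24, 4, -1), (25, 6, 1), (27, 3, 1), (28, 5, -1), (29, 8, 1), (37, 9, 1), (38, 11, -1), (39, 13, 1)],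
    [(8, 0, -1), (16, 1, 1), (21, 4, 1), (22, 6, -1), (26, 3, 1), (28, 7, -1), (29, 10, 1), (35, 9, 1), (36, 11, -1), (39, 14, 1)],
    [(5, 0, 1), (12, 1, 1), (13, 2, 1), (21, 5, 1), (22, 8, -1), (24, 7, 1), (25, 10, -1), (32, 9, 1), (33, 11, -1), (39, 15, 1)],
    [(7, 0, 1), (15, 1, -1), (18, 2, 1), (20, 6, 1), (26, 5, 1), (27, 7, -1), (29, 12, 1), (34, 9, 1), (36, 13, -1), (38, 14, 1)],
    [(4, 0, -1), (11, 1, -1), (13, 4, 1), (18, 3, 1), (20, 8, 1), (23, 7, 1), (25, 12, -1), (31, 9, 1), (33, 13, -1), (38, 15, 1)],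
    [(6, 0, -1), (14, 1, 1), (17, 2, -1), (19, 4, 1), (26, 8, 1), (27, 10, -1), (28, 12, 1), (34, 11, 1), (35, 13, -1), (37, 14, 1)],
    [(2, 0, 1), (11, 2, -1), (12, 4, -1), (15, 3, 1), (16, 5, 1), (20, 10, 1), (22, 12, 1), (30, 9, 1), (33, 14, -1), (36, 15, 1)],
    [(3, 0, 1), (10, 1, 1), (13, 6, 1), (17, 3, -1), (19, 5, 1), (23, 10, 1), (24, 12, -1), (31, 11, 1), (32, 13, -1), (37, 15, 1)],
    [(2, 1, 1), (4, 2, 1), (5, 4, 1), (7, 3, 1), (8, 5, 1), (9, 7, 1), (20, 11, 1), (22, 13, 1), (25, 14, 1), (29, 15, 1)],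
    [(1, 0, -1), (10, 2, 1), (12, 6, -1), (14, 3, -1), (16, 8, 1), (19, 7, 1), (21, 12, 1), (30, 11, 1), (32, 14, -1), (35, 15, 1)],
    [(1, 1, -1), (3, 2, -1), (5, 6, 1), (6, 3, -1), (8, 8, 1), (9, 10, 1), (19, 9, 1), (21, 13, 1), (24, 14, 1), (28, 15, 1)],
    [(0, 0, 1), (10, 4, 1), (11, 6, 1), (14, 5, -1), (15, 8, -1), (17, 7, 1), (18, 10, 1), (30, 13, 1), (31, 14, -1), (34, 15, 1)],
    [(0, 1, 1), (3, 4, -1), (4, 6, -1), (6, 5, -1), (7, 8, -1), (9, 12, 1), (17, 9, 1), (18, 11, 1), (23, 14, 1), (27, 15, 1)],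
    [(0, 2, 1), (1, 4, 1), (2, 6, 1), (6, 7, -1), (7, 10, -1), (8, 12, -1), (14, 9, 1), (15, 11, 1), (16, 13, 1), (26, 15, 1)],
    [(0, 3, 1), (1, 5, 1), (2, 8, 1), (3, 7, 1), (4, 10, 1), (5, 12, 1), (10, 9, 1), (11, 11, 1), (12, 13, 1), (13, 14, 1)]]

/-- The spreading moves, step a0. -/
def bta0 : List (List (List (Ent 40 16))) :=
  [[[], [], [], [], [], [], [], [], [], [(20, 11, 1), (22, 13, 1)], [], [(19, 9, 1), (21, 13, 1)], [], [(17, 9, 1), (18, 11, 1)], [(14, 9, 1), (15, 11, 1)], [(10, 9, 1), (11, 11, 1)]],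
    [[], [], [], [], [], [], [], [(20, 10, 1), (22, 12, 1)], [], [], [(19, 7, 1), (21, 12, 1)], [], [(17, 7, 1), (18, 10, 1)], [], [(6, 7, -1), (7, 10, -1)], [(3, 7, 1), (4, 10, 1)]],
    [[], [], [], [], [], [(20, 8, 1), (25, 12, -1)], [], [], [(19, 5, 1), (24, 12, -1)], [], [], [], [(14, 5, -1), (15, 8, -1)], [(6, 5, -1), (7, 8, -1)], [], [(1, 5, 1), (2, 8, 1)]],
    [[], [], [], [], [(20, 6, 1), (29, 12, 1)], [], [(19, 4, 1), (28, 12, 1)], [], [], [], [], [], [(10, 4, 1), (11, 6, 1)], [(3, 4, -1), (4, 6, -1)], [(1, 4, 1), (2, 6, 1)], []],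
    [[], [], [], [(22, 8, -1), (25, 10, -1)], [], [], [], [], [(17, 3, -1), (23, 10, 1)], [], [(14, 3, -1), (16, 8, 1)], [(6, 3, -1), (8, 8, 1)], [], [], [], [(0, 3, 1), (2, 8, 1)]],
    [[], [], [(22, 6, -1), (29, 10, 1)], [], [], [], [(17, 2, -1), (27, 10, -1)], [], [], [], [(10, 2, 1), (12, 6, -1)], [(3, 2, -1), (5, 6, 1)], [], [], [(0, 2, 1), (2, 6, 1)], []],
    [[], [], [], [(21, 5, 1), (24, 7, 1)], [], [(18, 3, 1), (23, 7, 1)], [], [(15, 3, 1), (16, 5, 1)], [], [(7, 3, 1), (8, 5, 1)], [], [], [], [], [], [(0, 3, 1), (1, 5, 1)]],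
    [[], [(25, 6, 1), (29, 8, 1)], [], [], [], [], [(14, 1, 1), (26, 8, 1)], [], [(10, 1, 1), (13, 6, 1)], [], [], [(1, 1, -1), (5, 6, 1)], [], [(0, 1, 1), (4, 6, -1)], [], []],
    [[], [], [(21, 4, 1), (28, 7, -1)], [], [(18, 2, 1), (27, 7, -1)], [], [], [(11, 2, -1), (12, 4, -1)], [], [(4, 2, 1), (5, 4, 1)], [], [], [], [], [(0, 2, 1), (1, 4, 1)], []],
    [[(33, 6, -1), (36, 8, 1)], [], [], [], [], [], [(6, 0, -1), (26, 8, 1)], [], [(3, 0, 1), (13, 6, 1)], [], [(1, 0, -1), (12, 6, -1)], [], [(0, 0, 1), (11, 6, 1)], [], [], []],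
    [[], [(24, 4, -1), (28, 5, -1)], [], [], [(15, 1, -1), (26, 5, 1)], [(11, 1, -1), (13, 4, 1)], [], [], [], [(2, 1, 1), (5, 4, 1)], [], [], [], [(0, 1, 1), (3, 4, -1)], [], []],
    [[(32, 4, 1), (35, 5, -1)], [], [], [], [(7, 0, 1), (26, 5, 1)], [(4, 0, -1), (13, 4, 1)], [], [(2, 0, 1), (12, 4, -1)], [], [], [], [], [(0, 0, 1), (10, 4, 1)], [], [], []],
    [[], [(23, 2, 1), (27, 3, 1)], [(16, 1, 1), (26, 3, 1)], [(12, 1, 1), (13, 2, 1)], [], [], [], [], [], [(2, 1, 1), (4, 2, 1)], [], [(1, 1, -1), (3, 2, -1)], [], [], [], []],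
    [[(31, 2, -1), (34, 3, 1)], [], [(8, 0, -1), (26, 3, 1)], [(5, 0, 1), (13, 2, 1)], [], [], [], [(2, 0, 1), (11, 2, -1)], [], [], [(1, 0, -1), (10, 2, 1)], [], [], [], [], []],
    [[(30, 1, 1), (34, 3, 1)], [(9, 0, 1), (27, 3, 1)], [], [(5, 0, 1), (12, 1, 1)], [], [(4, 0, -1), (11, 1, -1)], [], [], [(3, 0, 1), (10, 1, 1)], [], [], [], [], [], [], []],
    [[(30, 1, 1), (31, 2, -1)], [(9, 0, 1), (23, 2, 1)], [(8, 0, -1), (16, 1, 1)], [], [(7, 0, 1), (15, 1, -1)], [], [(6, 0, -1), (14, 1, 1)], [], [], [], [], [], [], [], [], []]]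

/-- The tables, step a0. -/
def taba0 : Tab 16 40 where
  P k := Pa0.getD k []
  nb i := nba0.getD i []
  bt i j := (bta0.getD i []).getD j []

theorem oka0 : taba0.Ok 10 := by decide +kernel

theorem linka0 : LinkOk chevE6 (List.range 72) Ya0 ala0 taba0 := by decide +kernel

theorem sidea0 : SideOk chevE6 ala0 taba0 4 39 := by decide +kernel

theorem adja0 : AdjOk chevE6 (List.range 72) Ya0 ala0 39 (56, 3, -1, -1) := by
  decide +kernel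

/-- Commutators fixing the weights, step a0. -/
def coma0 : Fin 16 → Fin 40 × Fin 40 × ℤ := fun i => ([(0, 0, 0), (0, 0, 0), (0, 0, 0), (0, 0, 0), (22, 37, -1), (22, 37, -1), (21, 38, 1), (21, 38, 1), (21, 38, 1), (21, 38, 1), (22, 37, -1), (22, 37, -1), (21, 38, 1), (21, 38, 1), (21, 38, 1), (21, 38, 1)] : List _).getD i (0, 0, 0)

theorem coma0_ok : ∀ μ : Fin 16, 4 ≤ (μ : ℕ) →
    ComOk chevE6 ala0 taba0 39 μ (coma0 μ) := by
  decide +kernel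

/-- Roots of the abelian set, step a1. -/
def Ya1 : Fin 10 → ℕ := fun i => ([55, 54, 52, 53, 49, 51, 48, 50, 47, 46] : List ℕ).getD i 0

/-- Roots of the next Levi set, step a1. -/
def ala1 : Fin 20 → ℕ := fun i => ([26, 27, 28, 29, 30, 31, 32, 33, 34, 35, 36, 37, 38, 39, 40, 41, 42, 43, 44, 45] : List ℕ).getD i 0

/-- The moves, step a1. -/
def Pa1 : List (Pairs 10) :=
  [[(0, 6, -1), (1, 8, -1), (2, 9, -1)],
    [(0, 4, 1), (3, 8, -1), (5, 9, -1)],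
    [(1, 4, 1), (3, 6, 1), (7, 9, -1)],
    [(2, 4, 1), (5, 6, 1), (7, 8, 1)],
    [(0, 5, -1), (1, 7, -1), (4, 9, 1)],
    [(0, 2, 1), (3, 7, -1), (6, 9, 1)],
    [(1, 2, 1), (3, 5, 1), (8, 9, 1)],
    [(0, 3, -1), (2, 7, 1), (4, 8, 1)],
    [(0, 1, 1), (5, 7, 1), (6, 8, 1)],
    [(1, 3, 1), (2, 5, 1), (4, 6, 1)],
    [(3, 1, 1), (5, 2, 1), (6, 4, 1)],
    [(1, 0, 1), (7, 5, 1), (8, 6, 1)],
    [(3, 0, -1), (7, 2, 1), (8, 4, 1)],
    [(2, 1, 1), (5, 3, 1), (9, 8, 1)],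
    [(2, 0, 1), (7, 3, -1), (9, 6, 1)],
    [(5, 0, -1), (7, 1, -1), (9, 4, 1)],
    [(4, 2, 1), (6, 5, 1), (8, 7, 1)],
    [(4, 1, 1), (6, 3, 1), (9, 7, -1)],
    [(4, 0, 1), (8, 3, -1), (9, 5, -1)],
    [(6, 0, -1), (8, 1, -1), (9, 2, -1)]]

/-- The neighbours, step a1. -/
def nba1 : List (List (Ent 20 10)) :=
  [[(11, 1, 1), (12, 3, -1), (14, 2, 1), (15, 5, -1), (18, 4, 1), (19, 6, -1)],
    [(8, 0, 1), (10, 3, 1), (13, 2, 1), (15, 7, -1), (17, 4, 1), (19, 8, -1)],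
    [(5, 0, 1), (6, 1, 1), (10, 5, 1), (12, 7, 1), (16, 4, 1), (19, 9, -1)],
    [(7, 0, -1), (9, 1, 1), (13, 5, 1), (14, 7, -1), (17, 6, 1), (18, 8, -1)],
    [(1, 0, 1), (2, 1, 1), (3, 2, 1), (10, 6, 1), (12, 8, 1), (15, 9, 1)],
    [(4, 0, -1), (6, 3, 1), (9, 2, 1), (11, 7, 1), (16, 6, 1), (18, 9, -1)],
    [(0, 0, -1), (2, 3, 1), (3, 5, 1), (9, 4, 1), (11, 8, 1), (14, 9, 1)],
    [(4, 1, -1), (5, 3, -1), (7, 2, 1), (8, 5, 1), (16, 8, 1), (17, 9, -1)],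
    [(0, 1, -1), (1, 3, -1), (3, 7, 1), (7, 4, 1), (8, 6, 1), (13, 9, 1)],
    [(0, 2, -1), (1, 5, -1), (2, 7, -1), (4, 4, 1), (5, 6, 1), (6, 8, 1)]]

/-- The spreading moves, step a1. -/
def bta1 : List (List (List (Ent 20 10))) :=
  [[[], [], [], [], [], [], [], [(16, 8, 1), (17, 9, -1)], [(3, 7, 1), (13, 9, 1)], [(2, 7, -1), (6, 8, 1)]],
    [[], [], [], [], [], [(16, 6, 1), (18, 9, -1)], [(3, 5, 1), (14, 9, 1)], [], [], [(1, 5, -1), (5, 6, 1)]],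
    [[], [], [], [(17, 6, 1), (18, 8, -1)], [], [], [(2, 3, 1), (11, 8, 1)], [], [(1, 3, -1), (8, 6, 1)], []],
    [[], [], [(16, 4, 1), (19, 9, -1)], [], [(3, 2, 1), (15, 9, 1)], [], [], [], [], [(0, 2, -1), (4, 4, 1)]],
    [[], [], [], [(13, 5, 1), (14, 7, -1)], [], [(6, 3, 1), (11, 7, 1)], [], [(5, 3, -1), (8, 5, 1)], [], []],
    [[], [(17, 4, 1), (19, 8, -1)], [], [], [(2, 1, 1), (12, 8, 1)], [], [], [], [(0, 1, -1), (7, 4, 1)], []],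
    [[], [(13, 2, 1), (15, 7, -1)], [(6, 1, 1), (12, 7, 1)], [], [], [], [], [(4, 1, -1), (7, 2, 1)], [], []],
    [[(18, 4, 1), (19, 6, -1)], [], [], [], [(1, 0, 1), (10, 6, 1)], [], [(0, 0, -1), (9, 4, 1)], [], [], []],
    [[(14, 2, 1), (15, 5, -1)], [], [(5, 0, 1), (10, 5, 1)], [], [], [(4, 0, -1), (9, 2, 1)], [], [], [], []],
    [[(11, 1, 1), (12, 3, -1)], [(8, 0, 1), (10, 3, 1)], [], [(7, 0, -1), (9, 1, 1)], [], [], [], [], [], []]]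

/-- The tables, step a1. -/
def taba1 : Tab 10 20 where
  P k := Pa1.getD k []
  nb i := nba1.getD i []
  bt i j := (bta1.getD i []).getD j []

theorem oka1 : taba1.Ok 6 := by decide +kernel

theorem linka1 : LinkOk chevE6 (List.ofFn ala0) Ya1 ala1 taba1 := by decide +kernel

theorem sidea1 : SideOk chevE6 ala1 taba1 3 19 := by decide +kernel

theorem adja1 : AdjOk chevE6 (List.ofFn ala0) Ya1 ala1 19 (46, 2, 1, 1) := by
  decide +kernel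

/-- Coroots fixing the weights, step a1. -/
def tora1 : Fin 10 → ℕ := fun i => ([0, 0, 0, 41, 56, 38, 38, 36, 36, 36] : List ℕ).getD i 0

theorem tora1_ok : ∀ μ : Fin 10, 3 ≤ (μ : ℕ) →
    TorOk chevE6 Ya1 ala1 19 μ (tora1 μ) := by
  decide +kernel

/-- Roots of the abelian set, step a2. -/
def Ya2 : Fin 4 → ℕ := fun i => ([45, 44, 43, 42] : List ℕ).getD i 0

/-- Roots of the next Levi set, step a2. -/
def ala2 : Fin 12 → ℕ := fun i => ([30, 31, 32, 33, 34, 35, 36, 37, 38, 39, 40, 41] : List ℕ).getD i 0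

/-- The moves, step a2. -/
def Pa2 : List (Pairs 4) :=
  [[(0, 3, 1)],
    [(1, 3, 1)],
    [(2, 3, 1)],
    [(0, 2, 1)],
    [(1, 2, 1)],
    [(0, 1, 1)],
    [(1, 0, 1)],
    [(2, 1, 1)],
    [(2, 0, 1)],
    [(3, 2, 1)],
    [(3, 1, 1)],
    [(3, 0, 1)]]

/-- The neighbours, step a2. -/
def nba2 : List (List (Ent 12 4)) :=
  [[(6, 1, 1), (8, 2, 1), (11, 3, 1)],
    [(5, 0, 1), (7, 2, 1), (10, 3, 1)],
    [(3, 0, 1), (4, 1, 1), (9, 3, 1)],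
    [(0, 0, 1), (1, 1, 1), (2, 2, 1)]]

/-- The spreading moves, step a2. -/
def bta2 : List (List (List (Ent 12 4))) :=
  [[[], [], [], []],
    [[], [], [], []],
    [[], [], [], []],
    [[], [], [], []]]

/-- The tables, step a2. -/
def taba2 : Tab 4 12 where
  P k := Pa2.getD k []
  nb i := nba2.getD i []
  bt i j := (bta2.getD i []).getD j []

theorem oka2 : taba2.Ok 3 := by decide +kernel

theorem linka2 : LinkOk chevE6 (List.ofFn ala1) Ya2 ala2 taba2 := by decide +kernel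

theorem sidea2 : SideOk chevE6 ala2 taba2 1 11 := by decide +kernel

theorem adja2 : AdjOk chevE6 (List.ofFn ala1) Ya2 ala2 11 (42, 0, -1, -1) := by
  decide +kernel

/-- Coroots fixing the weights, step a2. -/
def tora2 : Fin 4 → ℕ := fun i => ([0, 38, 36, 36] : List ℕ).getD i 0

theorem tora2_ok : ∀ μ : Fin 4, 1 ≤ (μ : ℕ) →
    TorOk chevE6 Ya2 ala2 11 μ (tora2 μ) := by
  decide +kernel

/-- Roots of the abelian set, step a3. -/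
def Ya3 : Fin 3 → ℕ := fun i => ([41, 40, 39] : List ℕ).getD i 0

/-- Roots of the next Levi set, step a3. -/
def ala3 : Fin 6 → ℕ := fun i => ([33, 34, 35, 36, 37, 38] : List ℕ).getD i 0

/-- The moves, step a3. -/
def Pa3 : List (Pairs 3) :=
  [[(0, 2, 1)],
    [(1, 2, 1)],
    [(0, 1, 1)],
    [(1, 0, 1)],
    [(2, 1, 1)],
    [(2, 0, 1)]]

/-- The neighbours, step a3. -/
def nba3 : List (List (Ent 6 3)) :=
  [[(3, 1, 1), (5, 2, 1)],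
    [(2, 0, 1), (4, 2, 1)],
    [(0, 0, 1), (1, 1, 1)]]

/-- The spreading moves, step a3. -/
def bta3 : List (List (List (Ent 6 3))) :=
  [[[], [], []],
    [[], [], []],
    [[], [], []]]

/-- The tables, step a3. -/
def taba3 : Tab 3 6 where
  P k := Pa3.getD k []
  nb i := nba3.getD i []
  bt i j := (bta3.getD i []).getD j []

theorem oka3 : taba3.Ok 2 := by decide +kernel

theorem linka3 : LinkOk chevE6 (List.ofFn ala2) Ya3 ala3 taba3 := by decide +kernel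

theorem sidea3 : SideOk chevE6 ala3 taba3 1 5 := by decide +kernel

theorem adja3 : AdjOk chevE6 (List.ofFn ala2) Ya3 ala3 5 (39, 0, -1, -1) := by
  decide +kernel

/-- Coroots fixing the weights, step a3. -/
def tora3 : Fin 3 → ℕ := fun i => ([0, 43, 36] : List ℕ).getD i 0

theorem tora3_ok : ∀ μ : Fin 3, 1 ≤ (μ : ℕ) →
    TorOk chevE6 Ya3 ala3 5 μ (tora3 μ) := by
  decide +kernel

/-- Roots of the abelian set, step a4. -/
def Ya4 : Fin 2 → ℕ := fun i => ([38, 37] : List ℕ).getD i 0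

/-- Roots of the next Levi set, step a4. -/
def ala4 : Fin 2 → ℕ := fun i => ([35, 36] : List ℕ).getD i 0

/-- The moves, step a4. -/
def Pa4 : List (Pairs 2) :=
  [[(0, 1, 1)],
    [(1, 0, 1)]]

/-- The neighbours, step a4. -/
def nba4 : List (List (Ent 2 2)) :=
  [[(1, 1, 1)],
    [(0, 0, 1)]]

/-- The spreading moves, step a4. -/
def bta4 : List (List (List (Ent 2 2))) :=
  [[[], []],
    [[], []]]

/-- The tables, step a4. -/
def taba4 : Tab 2 2 where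
  P k := Pa4.getD k []
  nb i := nba4.getD i []
  bt i j := (bta4.getD i []).getD j []

theorem oka4 : taba4.Ok 1 := by decide +kernel

theorem linka4 : LinkOk chevE6 (List.ofFn ala3) Ya4 ala4 taba4 := by decide +kernel

theorem sidea4 : SideOk chevE6 ala4 taba4 1 1 := by decide +kernel

theorem adja4 : AdjOk chevE6 (List.ofFn ala3) Ya4 ala4 1 (37, 0, -1, -1) := by
  decide +kernel

/-- Coroots fixing the weights, step a4. -/
def tora4 : Fin 2 → ℕ := fun i => ([0, 41] : List ℕ).getD i 0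

theorem tora4_ok : ∀ μ : Fin 2, 1 ≤ (μ : ℕ) →
    TorOk chevE6 Ya4 ala4 1 μ (tora4 μ) := by
  decide +kernel

/-- Roots of the abelian set, step b1. -/
def Yb1 : Fin 10 → ℕ := fun i => ([55, 54, 52, 53, 45, 51, 44, 50, 43, 42] : List ℕ).getD i 0

/-- Roots of the next Levi set, step b1. -/
def alb1 : Fin 20 → ℕ := fun i => ([22, 23, 24, 25, 30, 31, 32, 33, 34, 35, 36, 37, 38, 39, 40, 41, 46, 47, 48, 49] : List ℕ).getD i 0

/-- The moves, step b1. -/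
def Pb1 : List (Pairs 10) :=
  [[(0, 6, -1), (1, 8, -1), (2, 9, -1)],
    [(0, 4, 1), (3, 8, -1), (5, 9, -1)],
    [(1, 4, 1), (3, 6, 1), (7, 9, -1)],
    [(2, 4, 1), (5, 6, 1), (7, 8, 1)],
    [(0, 5, -1), (1, 7, -1), (4, 9, 1)],
    [(0, 2, 1), (3, 7, -1), (6, 9, 1)],
    [(1, 2, 1), (3, 5, 1), (8, 9, 1)],
    [(0, 3, -1), (2, 7, 1), (4, 8, 1)],
    [(0, 1, 1), (5, 7, 1), (6, 8, 1)],
    [(1, 3, 1), (2, 5, 1), (4, 6, 1)],
    [(3, 1, 1), (5, 2, 1), (6, 4, 1)],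
    [(1, 0, 1), (7, 5, 1), (8, 6, 1)],
    [(3, 0, -1), (7, 2, 1), (8, 4, 1)],
    [(2, 1, 1), (5, 3, 1), (9, 8, 1)],
    [(2, 0, 1), (7, 3, -1), (9, 6, 1)],
    [(5, 0, -1), (7, 1, -1), (9, 4, 1)],
    [(4, 2, 1), (6, 5, 1), (8, 7, 1)],
    [(4, 1, 1), (6, 3, 1), (9, 7, -1)],
    [(4, 0, 1), (8, 3, -1), (9, 5, -1)],
    [(6, 0, -1), (8, 1, -1), (9, 2, -1)]]

/-- The neighbours, step b1. -/
def nbb1 : List (List (Ent 20 10)) :=
  [[(11, 1, 1), (12, 3, -1), (14, 2, 1), (15, 5, -1), (18, 4, 1), (19, 6, -1)],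
    [(8, 0, 1), (10, 3, 1), (13, 2, 1), (15, 7, -1), (17, 4, 1), (19, 8, -1)],
    [(5, 0, 1), (6, 1, 1), (10, 5, 1), (12, 7, 1), (16, 4, 1), (19, 9, -1)],
    [(7, 0, -1), (9, 1, 1), (13, 5, 1), (14, 7, -1), (17, 6, 1), (18, 8, -1)],
    [(1, 0, 1), (2, 1, 1), (3, 2, 1), (10, 6, 1), (12, 8, 1), (15, 9, 1)],
    [(4, 0, -1), (6, 3, 1), (9, 2, 1), (11, 7, 1), (16, 6, 1), (18, 9, -1)],
    [(0, 0, -1), (2, 3, 1), (3, 5, 1), (9, 4, 1), (11, 8, 1), (14, 9, 1)],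
    [(4, 1, -1), (5, 3, -1), (7, 2, 1), (8, 5, 1), (16, 8, 1), (17, 9, -1)],
    [(0, 1, -1), (1, 3, -1), (3, 7, 1), (7, 4, 1), (8, 6, 1), (13, 9, 1)],
    [(0, 2, -1), (1, 5, -1), (2, 7, -1), (4, 4, 1), (5, 6, 1), (6, 8, 1)]]

/-- The spreading moves, step b1. -/
def btb1 : List (List (List (Ent 20 10))) :=
  [[[], [], [], [], [], [], [], [(16, 8, 1), (17, 9, -1)], [(3, 7, 1), (13, 9, 1)], [(2, 7, -1), (6, 8, 1)]],
    [[], [], [], [], [], [(16, 6, 1), (18, 9, -1)], [(3, 5, 1), (14, 9, 1)], [], [], [(1, 5, -1), (5, 6, 1)]],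
    [[], [], [], [(17, 6, 1), (18, 8, -1)], [], [], [(2, 3, 1), (11, 8, 1)], [], [(1, 3, -1), (8, 6, 1)], []],
    [[], [], [(16, 4, 1), (19, 9, -1)], [], [(3, 2, 1), (15, 9, 1)], [], [], [], [], [(0, 2, -1), (4, 4, 1)]],
    [[], [], [], [(13, 5, 1), (14, 7, -1)], [], [(6, 3, 1), (11, 7, 1)], [], [(5, 3, -1), (8, 5, 1)], [], []],
    [[], [(17, 4, 1), (19, 8, -1)], [], [], [(2, 1, 1), (12, 8, 1)], [], [], [], [(0, 1, -1), (7, 4, 1)], []],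
    [[], [(13, 2, 1), (15, 7, -1)], [(6, 1, 1), (12, 7, 1)], [], [], [], [], [(4, 1, -1), (7, 2, 1)], [], []],
    [[(18, 4, 1), (19, 6, -1)], [], [], [], [(1, 0, 1), (10, 6, 1)], [], [(0, 0, -1), (9, 4, 1)], [], [], []],
    [[(14, 2, 1), (15, 5, -1)], [], [(5, 0, 1), (10, 5, 1)], [], [], [(4, 0, -1), (9, 2, 1)], [], [], [], []],
    [[(11, 1, 1), (12, 3, -1)], [(8, 0, 1), (10, 3, 1)], [], [(7, 0, -1), (9, 1, 1)], [], [], [], [], [], []]]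

/-- The tables, step b1. -/
def tabb1 : Tab 10 20 where
  P k := Pb1.getD k []
  nb i := nbb1.getD i []
  bt i j := (btb1.getD i []).getD j []

theorem okb1 : tabb1.Ok 6 := by decide +kernel

theorem linkb1 : LinkOk chevE6 (List.ofFn ala0) Yb1 alb1 tabb1 := by decide +kernel

/-- Roots of the abelian set, step c0. -/
def Yc0 : Fin 16 → ℕ := fun i => ([71, 70, 69, 68, 66, 55, 65, 54, 63, 52, 60, 45, 49, 41, 38, 36] : List ℕ).getD i 0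

/-- Roots of the next Levi set, step c0. -/
def alc0 : Fin 40 → ℕ := fun i => ([4, 7, 9, 10, 12, 13, 14, 15, 18, 20, 21, 23, 24, 25, 27, 28, 29, 31, 32, 34, 37, 39, 40, 42, 43, 44, 46, 47, 48, 50, 51, 53, 56, 57, 58, 59, 61, 62, 64, 67] : List ℕ).getD i 0

/-- The moves, step c0. -/
def Pc0 : List (Pairs 16) :=
  [[(0, 12, 1), (1, 13, -1), (2, 14, 1), (3, 15, -1)],
    [(0, 9, -1), (1, 11, -1), (4, 14, 1), (6, 15, -1)],
    [(0, 7, 1), (2, 11, -1), (4, 13, 1), (8, 15, -1)],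
    [(0, 5, -1), (3, 11, -1), (6, 13, 1), (8, 14, -1)],
    [(1, 7, 1), (2, 9, 1), (4, 12, 1), (10, 15, -1)],
    [(1, 5, -1), (3, 9, 1), (6, 12, 1), (10, 14, -1)],
    [(2, 5, -1), (3, 7, -1), (8, 12, 1), (10, 13, -1)],
    [(4, 5, -1), (6, 7, -1), (8, 9, -1), (10, 11, -1)],
    [(0, 8, 1), (1, 10, 1), (5, 14, 1), (7, 15, -1)],
    [(0, 6, -1), (2, 10, 1), (5, 13, 1), (9, 15, -1)],
    [(0, 4, 1), (3, 10, 1), (7, 13, 1), (9, 14, -1)],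
    [(0, 3, 1), (4, 10, 1), (5, 11, 1), (12, 15, -1)],
    [(0, 2, -1), (6, 10, 1), (7, 11, 1), (12, 14, -1)],
    [(0, 1, 1), (8, 10, 1), (9, 11, 1), (12, 13, -1)],
    [(1, 6, -1), (2, 8, -1), (5, 12, 1), (11, 15, -1)],
    [(1, 4, 1), (3, 8, -1), (7, 12, 1), (11, 14, -1)],
    [(2, 4, 1), (3, 6, 1), (9, 12, 1), (11, 13, -1)],
    [(1, 3, -1), (4, 8, 1), (5, 9, 1), (13, 15, -1)],
    [(1, 2, 1), (6, 8, 1), (7, 9, 1), (13, 14, -1)],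
    [(2, 3, 1), (4, 6, 1), (5, 7, 1), (14, 15, -1)],
    [(3, 2, 1), (6, 4, 1), (7, 5, 1), (15, 14, -1)],
    [(2, 1, 1), (8, 6, 1), (9, 7, 1), (14, 13, -1)],
    [(3, 1, -1), (8, 4, 1), (9, 5, 1), (15, 13, -1)],
    [(4, 2, 1), (6, 3, 1), (12, 9, 1), (13, 11, -1)],
    [(4, 1, 1), (8, 3, -1), (12, 7, 1), (14, 11, -1)],
    [(6, 1, -1), (8, 2, -1), (12, 5, 1), (15, 11, -1)],
    [(1, 0, 1), (10, 8, 1), (11, 9, 1), (13, 12, -1)],
    [(2, 0, -1), (10, 6, 1), (11, 7, 1), (14, 12, -1)],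
    [(3, 0, 1), (10, 4, 1), (11, 5, 1), (15, 12, -1)],
    [(4, 0, 1), (10, 3, 1), (13, 7, 1), (14, 9, -1)],
    [(6, 0, -1), (10, 2, 1), (13, 5, 1), (15, 9, -1)],
    [(8, 0, 1), (10, 1, 1), (14, 5, 1), (15, 7, -1)],
    [(5, 4, -1), (7, 6, -1), (9, 8, -1), (11, 10, -1)],
    [(5, 2, -1), (7, 3, -1), (12, 8, 1), (13, 10, -1)],
    [(5, 1, -1), (9, 3, 1), (12, 6, 1), (14, 10, -1)],
    [(7, 1, 1), (9, 2, 1), (12, 4, 1), (15, 10, -1)],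
    [(5, 0, -1), (11, 3, -1), (13, 6, 1), (14, 8, -1)],
    [(7, 0, 1), (11, 2, -1), (13, 4, 1), (15, 8, -1)],
    [(9, 0, -1), (11, 1, -1), (14, 4, 1), (15, 6, -1)],
    [(12, 0, 1), (13, 1, -1), (14, 2, 1), (15, 3, -1)]]

/-- The neighbours, step c0. -/
def nbc0 : List (List (Ent 40 16)) :=
  [[(26, 1, 1), (27, 2, -1), (28, 3, 1), (29, 4, 1), (30, 6, -1), (31, 8, 1), (36, 5, -1), (37, 7, 1), (38, 9, -1), (39, 12, 1)],
    [(13, 0, 1), (21, 2, 1), (22, 3, -1), (24, 4, 1), (25, 6, -1), (31, 10, 1), (34, 5, -1), (35, 7, 1), (38, 11, -1), (39, 13, -1)],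
    [(12, 0, -1), (18, 1, 1), (20, 3, 1), (23, 4, 1), (25, 8, -1), (30, 10, 1), (33, 5, -1), (35, 9, 1), (37, 11, -1), (39, 14, 1)],
    [(11, 0, 1), (17, 1, -1), (19, 2, 1), (23, 6, 1), (24, 8, -1), (29, 10, 1), (33, 7, -1), (34, 9, 1), (36, 11, -1), (39, 15, -1)],
    [(10, 0, 1), (15, 1, 1), (16, 2, 1), (20, 6, 1), (22, 8, 1), (28, 10, 1), (32, 5, -1), (35, 12, 1), (37, 13, 1), (38, 14, 1)],
    [(3, 0, -1), (5, 1, -1), (6, 2, -1), (7, 4, -1), (20, 7, 1), (22, 9, 1), (25, 12, 1), (28, 11, 1), (30, 13, 1), (31, 14, 1)],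
    [(9, 0, -1), (14, 1, -1), (16, 3, 1), (19, 4, 1), (21, 8, 1), (27, 10, 1), (32, 7, -1), (34, 12, 1), (36, 13, 1), (38, 15, -1)],
    [(2, 0, 1), (4, 1, 1), (6, 3, -1), (7, 6, -1), (19, 5, 1), (21, 9, 1), (24, 12, 1), (27, 11, 1), (29, 13, 1), (31, 15, -1)],
    [(8, 0, 1), (14, 2, -1), (15, 3, -1), (17, 4, 1), (18, 6, 1), (26, 10, 1), (32, 9, -1), (33, 12, 1), (36, 14, -1), (37, 15, -1)],
    [(1, 0, -1), (4, 2, 1), (5, 3, 1), (7, 8, -1), (17, 5, 1), (18, 7, 1), (23, 12, 1), (26, 11, 1), (29, 14, -1), (30, 15, -1)],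
    [(8, 1, 1), (9, 2, 1), (10, 3, 1), (11, 4, 1), (12, 6, 1), (13, 8, 1), (32, 11, -1), (33, 13, -1), (34, 14, -1), (35, 15, -1)],
    [(1, 1, -1), (2, 2, -1), (3, 3, -1), (7, 10, -1), (11, 5, 1), (12, 7, 1), (13, 9, 1), (23, 13, -1), (24, 14, -1), (25, 15, -1)],
    [(0, 0, 1), (4, 4, 1), (5, 6, 1), (6, 8, 1), (14, 5, 1), (15, 7, 1), (16, 9, 1), (26, 13, -1), (27, 14, -1), (28, 15, -1)],
    [(0, 1, -1), (2, 4, 1), (3, 6, 1), (6, 10, -1), (9, 5, 1), (10, 7, 1), (13, 12, -1), (16, 11, -1), (21, 14, -1), (22, 15, -1)],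
    [(0, 2, 1), (1, 4, 1), (3, 8, -1), (5, 10, -1), (8, 5, 1), (10, 9, -1), (12, 12, -1), (15, 11, -1), (18, 13, -1), (20, 15, -1)],
    [(0, 3, -1), (1, 6, -1), (2, 8, -1), (4, 10, -1), (8, 7, -1), (9, 9, -1), (11, 12, -1), (14, 11, -1), (17, 13, -1), (19, 14, -1)]]

/-- The spreading moves, step c0. -/
def btc0 : List (List (List (Ent 40 16))) :=
  [[[], [], [], [], [], [], [], [], [], [], [(32, 11, -1), (33, 13, -1)], [(7, 10, -1), (23, 13, -1)], [], [(6, 10, -1), (16, 11, -1)], [(5, 10, -1), (15, 11, -1)], [(4, 10, -1), (14, 11, -1)]],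
    [[], [], [], [], [], [], [], [], [(32, 9, -1), (33, 12, 1)], [(7, 8, -1), (23, 12, 1)], [], [], [(6, 8, 1), (16, 9, 1)], [], [(3, 8, -1), (10, 9, -1)], [(2, 8, -1), (9, 9, -1)]],
    [[], [], [], [], [], [], [(32, 7, -1), (34, 12, 1)], [(7, 6, -1), (24, 12, 1)], [], [], [], [], [(5, 6, 1), (15, 7, 1)], [(3, 6, 1), (10, 7, 1)], [], [(1, 6, -1), (8, 7, -1)]],
    [[], [], [], [], [(32, 5, -1), (35, 12, 1)], [(7, 4, -1), (25, 12, 1)], [], [], [], [], [], [], [(4, 4, 1), (14, 5, 1)], [(2, 4, 1), (9, 5, 1)], [(1, 4, 1), (8, 5, 1)], []],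
    [[], [], [], [(33, 7, -1), (34, 9, 1)], [], [], [], [(6, 3, -1), (21, 9, 1)], [], [(5, 3, 1), (18, 7, 1)], [], [(3, 3, -1), (12, 7, 1)], [], [], [], [(0, 3, -1), (8, 7, -1)]],
    [[], [], [], [(23, 6, 1), (24, 8, -1)], [], [], [(16, 3, 1), (21, 8, 1)], [], [(15, 3, -1), (18, 6, 1)], [], [(10, 3, 1), (12, 6, 1)], [], [], [], [], [(0, 3, -1), (1, 6, -1)]],
    [[], [], [(33, 5, -1), (35, 9, 1)], [], [], [(6, 2, -1), (22, 9, 1)], [], [], [], [(4, 2, 1), (17, 5, 1)], [], [(2, 2, -1), (11, 5, 1)], [], [], [(0, 2, 1), (8, 5, 1)], []],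
    [[], [], [(23, 4, 1), (25, 8, -1)], [], [(16, 2, 1), (22, 8, 1)], [], [], [], [(14, 2, -1), (17, 4, 1)], [], [(9, 2, 1), (11, 4, 1)], [], [], [], [(0, 2, 1), (1, 4, 1)], []],
    [[], [(34, 5, -1), (35, 7, 1)], [], [], [], [(5, 1, -1), (20, 7, 1)], [], [(4, 1, 1), (19, 5, 1)], [], [], [], [(1, 1, -1), (11, 5, 1)], [], [(0, 1, -1), (9, 5, 1)], [], []],
    [[], [(24, 4, 1), (25, 6, -1)], [], [], [(15, 1, 1), (20, 6, 1)], [], [(14, 1, -1), (19, 4, 1)], [], [], [], [(8, 1, 1), (11, 4, 1)], [], [], [(0, 1, -1), (2, 4, 1)], [], []],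
    [[(36, 5, -1), (37, 7, 1)], [], [], [], [], [(3, 0, -1), (20, 7, 1)], [], [(2, 0, 1), (19, 5, 1)], [], [(1, 0, -1), (17, 5, 1)], [], [], [(0, 0, 1), (14, 5, 1)], [], [], []],
    [[(29, 4, 1), (30, 6, -1)], [], [], [], [(10, 0, 1), (20, 6, 1)], [], [(9, 0, -1), (19, 4, 1)], [], [(8, 0, 1), (17, 4, 1)], [], [], [], [(0, 0, 1), (4, 4, 1)], [], [], []],
    [[], [(21, 2, 1), (22, 3, -1)], [(18, 1, 1), (20, 3, 1)], [(17, 1, -1), (19, 2, 1)], [], [], [], [], [], [], [(8, 1, 1), (9, 2, 1)], [(1, 1, -1), (2, 2, -1)], [], [], [], []],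
    [[(27, 2, -1), (28, 3, 1)], [], [(12, 0, -1), (20, 3, 1)], [(11, 0, 1), (19, 2, 1)], [], [], [], [], [(8, 0, 1), (14, 2, -1)], [(1, 0, -1), (4, 2, 1)], [], [], [], [], [], []],
    [[(26, 1, 1), (28, 3, 1)], [(13, 0, 1), (22, 3, -1)], [], [(11, 0, 1), (17, 1, -1)], [], [], [(9, 0, -1), (14, 1, -1)], [(2, 0, 1), (4, 1, 1)], [], [], [], [], [], [], [], []],
    [[(26, 1, 1), (27, 2, -1)], [(13, 0, 1), (21, 2, 1)], [(12, 0, -1), (18, 1, 1)], [], [(10, 0, 1), (15, 1, 1)], [(3, 0, -1), (5, 1, -1)], [], [], [], [], [], [], [], [], [], []]]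

/-- The tables, step c0. -/
def tabc0 : Tab 16 40 where
  P k := Pc0.getD k []
  nb i := nbc0.getD i []
  bt i j := (btc0.getD i []).getD j []

theorem okc0 : tabc0.Ok 10 := by decide +kernel

theorem linkc0 : LinkOk chevE6 (List.range 72) Yc0 alc0 tabc0 := by decide +kernel

theorem sidec0 : SideOk chevE6 alc0 tabc0 4 39 := by decide +kernel

theorem adjc0 : AdjOk chevE6 (List.range 72) Yc0 alc0 39 (36, 3, 1, 1) := by
  decide +kernel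

/-- Commutators fixing the weights, step c0. -/
def comc0 : Fin 16 → Fin 40 × Fin 40 × ℤ := fun i => ([(0, 0, 0), (0, 0, 0), (0, 0, 0), (0, 0, 0), (25, 36, 1), (23, 38, 1), (24, 37, -1), (23, 38, 1), (23, 38, 1), (24, 37, -1), (23, 38, 1), (29, 35, 1), (23, 38, 1), (23, 38, 1), (23, 38, 1), (23, 38, 1)] : List _).getD i (0, 0, 0)

theorem comc0_ok : ∀ μ : Fin 16, 4 ≤ (μ : ℕ) →
    ComOk chevE6 alc0 tabc0 39 μ (comc0 μ) := by
  decide +kernel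

/-- Roots of the abelian set, step c1. -/
def Yc1 : Fin 10 → ℕ := fun i => ([67, 64, 62, 53, 51, 61, 48, 50, 47, 46] : List ℕ).getD i 0

/-- Roots of the next Levi set, step c1. -/
def alc1 : Fin 20 → ℕ := fun i => ([12, 13, 14, 15, 27, 28, 29, 31, 32, 34, 37, 39, 40, 42, 43, 44, 56, 57, 58, 59] : List ℕ).getD i 0

/-- The moves, step c1. -/
def Pc1 : List (Pairs 10) :=
  [[(0, 7, -1), (1, 8, -1), (2, 9, -1)],
    [(0, 4, 1), (1, 6, 1), (5, 9, -1)],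
    [(0, 3, -1), (2, 6, 1), (5, 8, 1)],
    [(1, 3, -1), (2, 4, -1), (5, 7, -1)],
    [(0, 5, 1), (3, 8, -1), (4, 9, -1)],
    [(0, 2, -1), (3, 6, 1), (7, 9, -1)],
    [(0, 1, 1), (4, 6, 1), (7, 8, 1)],
    [(1, 5, -1), (3, 7, -1), (6, 9, 1)],
    [(1, 2, 1), (3, 4, 1), (8, 9, 1)],
    [(2, 5, 1), (4, 7, 1), (6, 8, 1)],
    [(5, 2, 1), (7, 4, 1), (8, 6, 1)],
    [(2, 1, 1), (4, 3, 1), (9, 8, 1)],
    [(5, 1, -1), (7, 3, -1), (9, 6, 1)],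
    [(1, 0, 1), (6, 4, 1), (8, 7, 1)],
    [(2, 0, -1), (6, 3, 1), (9, 7, -1)],
    [(5, 0, 1), (8, 3, -1), (9, 4, -1)],
    [(3, 1, -1), (4, 2, -1), (7, 5, -1)],
    [(3, 0, -1), (6, 2, 1), (8, 5, 1)],
    [(4, 0, 1), (6, 1, 1), (9, 5, -1)],
    [(7, 0, -1), (8, 1, -1), (9, 2, -1)]]

/-- The neighbours, step c1. -/
def nbc1 : List (List (Ent 20 10)) :=
  [[(13, 1, 1), (14, 2, -1), (15, 5, 1), (17, 3, -1), (18, 4, 1), (19, 7, -1)],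
    [(6, 0, 1), (11, 2, 1), (12, 5, -1), (16, 3, -1), (18, 6, 1), (19, 8, -1)],
    [(5, 0, -1), (8, 1, 1), (10, 5, 1), (16, 4, -1), (17, 6, 1), (19, 9, -1)],
    [(2, 0, -1), (3, 1, -1), (11, 4, 1), (12, 7, -1), (14, 6, 1), (15, 8, -1)],
    [(1, 0, 1), (3, 2, -1), (8, 3, 1), (10, 7, 1), (13, 6, 1), (15, 9, -1)],
    [(4, 0, 1), (7, 1, -1), (9, 2, 1), (16, 7, -1), (17, 8, 1), (18, 9, -1)],
    [(1, 1, 1), (2, 2, 1), (5, 3, 1), (6, 4, 1), (10, 8, 1), (12, 9, 1)],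
    [(0, 0, -1), (3, 5, -1), (7, 3, -1), (9, 4, 1), (13, 8, 1), (14, 9, -1)],
    [(0, 1, -1), (2, 5, 1), (4, 3, -1), (6, 7, 1), (9, 6, 1), (11, 9, 1)],
    [(0, 2, -1), (1, 5, -1), (4, 4, -1), (5, 7, -1), (7, 6, 1), (8, 8, 1)]]

/-- The spreading moves, step c1. -/
def btc1 : List (List (List (Ent 20 10))) :=
  [[[], [], [], [], [], [], [(10, 8, 1), (12, 9, 1)], [], [(9, 6, 1), (11, 9, 1)], [(7, 6, 1), (8, 8, 1)]],
    [[], [], [], [], [(10, 7, 1), (15, 9, -1)], [], [], [(9, 4, 1), (14, 9, -1)], [], [(4, 4, -1), (5, 7, -1)]],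
    [[], [], [], [(12, 7, -1), (15, 8, -1)], [], [], [], [(7, 3, -1), (13, 8, 1)], [(4, 3, -1), (6, 7, 1)], []],
    [[], [], [(10, 5, 1), (19, 9, -1)], [], [], [(9, 2, 1), (18, 9, -1)], [], [], [], [(0, 2, -1), (1, 5, -1)]],
    [[], [(12, 5, -1), (19, 8, -1)], [], [], [], [(7, 1, -1), (17, 8, 1)], [], [], [(0, 1, -1), (2, 5, 1)], []],
    [[], [], [], [(11, 4, 1), (14, 6, 1)], [(8, 3, 1), (13, 6, 1)], [], [(5, 3, 1), (6, 4, 1)], [], [], []],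
    [[(15, 5, 1), (19, 7, -1)], [], [], [], [], [(4, 0, 1), (16, 7, -1)], [], [(0, 0, -1), (3, 5, -1)], [], []],
    [[], [(11, 2, 1), (18, 6, 1)], [(8, 1, 1), (17, 6, 1)], [], [], [], [(1, 1, 1), (2, 2, 1)], [], [], []],
    [[(14, 2, -1), (18, 4, 1)], [], [(5, 0, -1), (16, 4, -1)], [], [(1, 0, 1), (3, 2, -1)], [], [], [], [], []],
    [[(13, 1, 1), (17, 3, -1)], [(6, 0, 1), (16, 3, -1)], [], [(2, 0, -1), (3, 1, -1)], [], [], [], [], [], []]]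

/-- The tables, step c1. -/
def tabc1 : Tab 10 20 where
  P k := Pc1.getD k []
  nb i := nbc1.getD i []
  bt i j := (btc1.getD i []).getD j []

theorem okc1 : tabc1.Ok 6 := by decide +kernel

theorem linkc1 : LinkOk chevE6 (List.ofFn alc0) Yc1 alc1 tabc1 := by decide +kernel

end CfsgLib.ESixDegree
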