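import Cfsg.Agent.ESixDegree.Tables
import Cfsg.Agent.RootWeight.Close

/-!
# The extra tables for two field elements (generated, checked by the kernel)
-/

set_option autoImplicit false
set_option maxRecDepth 100000
set_option maxHeartbeats 4000000

namespace CfsgLib.ESixDegree

open Cfsg.Lie CfsgLib.RootWeight

/-- Roots of the abelian set, step b2. -/
def Yb2 : Fin 4 → ℕ := fun i => ([49, 48, 47, 46] : List ℕ).getD i 0

/-- Roots of the next Levi set, step b2. -/
def alb2 : Fin 12 → ℕ := fun i => ([30, 31, 32, 33, 34, 35, 36, 37, 38, 39, 40, 41] : List ℕ).getD i 0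

/-- The moves, step b2. -/
def Pb2 : List (Pairs 4) :=
  [[(0, 3, 1)],
    [(1, 3, 1)],
    [(2, 3, 1)],
    [(0, 2, 1)],
    [(1, 2, 1)],
    [(0, 1, 1)],
    [(1, 0, 1)],
    [(2, 1, 1)],
    [(2, 0, 1)],
    [(3, 2, 1)],
    [(3, 1, 1)],
    [(3, 0, 1)]]

/-- The neighbours, step b2. -/
def nbb2 : List (List (Ent 12 4)) :=
  [[(6, 1, 1), (8, 2, 1), (11, 3, 1)],
    [(5, 0, 1), (7, 2, 1), (10, 3, 1)],
    [(3, 0, 1), (4, 1, 1), (9, 3, 1)],
    [(0, 0, 1), (1, 1, 1), (2, 2, 1)]]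

/-- The spreading moves, step b2. -/
def btb2 : List (List (List (Ent 12 4))) :=
  [[[], [], [], []],
    [[], [], [], []],
    [[], [], [], []],
    [[], [], [], []]]

/-- The tables, step b2. -/
def tabb2 : Tab 4 12 where
  P k := Pb2.getD k []
  nb i := nbb2.getD i []
  bt i j := (btb2.getD i []).getD j []

theorem okb2 : tabb2.Ok 3 := by decide +kernel

theorem linkb2 : LinkOk chevE6 (List.ofFn alb1) Yb2 alb2 tabb2 := by decide +kernel

/-- Roots of the abelian set, step c2. -/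
def Yc2 : Fin 4 → ℕ := fun i => ([59, 58, 57, 56] : List ℕ).getD i 0

/-- Roots of the next Levi set, step c2. -/
def alc2 : Fin 12 → ℕ := fun i => ([27, 28, 29, 31, 32, 34, 37, 39, 40, 42, 43, 44] : List ℕ).getD i 0

/-- The moves, step c2. -/
def Pc2 : List (Pairs 4) :=
  [[(0, 3, 1)],
    [(1, 3, 1)],
    [(2, 3, 1)],
    [(0, 2, 1)],
    [(1, 2, 1)],
    [(0, 1, 1)],
    [(1, 0, 1)],
    [(2, 1, 1)],
    [(2, 0, 1)],
    [(3, 2, 1)],
    [(3, 1, 1)],
    [(3, 0, 1)]]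

/-- The neighbours, step c2. -/
def nbc2 : List (List (Ent 12 4)) :=
  [[(6, 1, 1), (8, 2, 1), (11, 3, 1)],
    [(5, 0, 1), (7, 2, 1), (10, 3, 1)],
    [(3, 0, 1), (4, 1, 1), (9, 3, 1)],
    [(0, 0, 1), (1, 1, 1), (2, 2, 1)]]

/-- The spreading moves, step c2. -/
def btc2 : List (List (List (Ent 12 4))) :=
  [[[], [], [], []],
    [[], [], [], []],
    [[], [], [], []],
    [[], [], [], []]]

/-- The tables, step c2. -/
def tabc2 : Tab 4 12 where
  P k := Pc2.getD k []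
  nb i := nbc2.getD i []
  bt i j := (btc2.getD i []).getD j []

theorem okc2 : tabc2.Ok 3 := by decide +kernel

theorem linkc2 : LinkOk chevE6 (List.ofFn alc1) Yc2 alc2 tabc2 := by decide +kernel

/-- Propagation of triviality, chain a. -/
def stepa : List (ℕ × ℕ × ℕ × ℤ) :=
  [(26, 42, 30, -1), (26, 43, 33, -1), (26, 44, 35, -1), (27, 35, 26, 1), (26, 36, 27, 1), (26, 38, 28, 1), (26, 41, 29, 1), (27, 42, 31, -1), (27, 43, 34, -1), (27, 45, 36, -1), (28, 42, 32, -1), (28, 44, 37, -1), (28, 45, 38, -1), (29, 43, 39, -1), (29, 44, 40, -1), (29, 45, 41, -1)]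

/-- Propagation of triviality, chain b. -/
def stepb : List (ℕ × ℕ × ℕ × ℤ) :=
  [(22, 46, 30, -1), (22, 47, 33, -1), (22, 48, 35, -1), (23, 35, 22, 1), (22, 36, 23, 1), (22, 38, 24, 1), (22, 41, 25, 1), (23, 46, 31, -1), (23, 47, 34, -1), (23, 49, 36, -1), (24, 46, 32, -1), (24, 48, 37, -1), (24, 49, 38, -1), (25, 47, 39, -1), (25, 48, 40, -1), (25, 49, 41, -1)]

/-- Propagation of triviality, chain c. -/
def stepc : List (ℕ × ℕ × ℕ × ℤ) :=
  [(12, 56, 27, -1), (12, 57, 31, -1), (12, 58, 34, -1), (13, 34, 12, 1), (12, 37, 13, 1), (12, 40, 14, 1), (12, 44, 15, 1), (13, 56, 28, -1), (13, 57, 32, -1), (13, 59, 37, -1), (14, 56, 29, -1), (14, 58, 39, -1), (14, 59, 40, -1), (15, 57, 42, -1), (15, 58, 43, -1), (15, 59, 44, -1)]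

/-- Propagation to all roots. -/
def stepAll : List (ℕ × ℕ × ℕ × ℤ) :=
  [(12, 22, 5, -1), (5, 28, 1, 1), (1, 25, 0, 1), (0, 47, 2, -1), (0, 48, 3, 1), (0, 49, 4, -1), (0, 51, 6, -1), (0, 52, 7, 1), (0, 53, 8, 1), (0, 54, 9, -1), (0, 55, 10, 1), (0, 61, 16, -1), (0, 62, 17, 1), (0, 63, 18, -1), (0, 64, 19, -1), (0, 65, 20, 1), (0, 66, 21, -1), (1, 53, 11, 1)]

theorem spreada : SpreadOk chevE6 (List.ofFn ala1) (List.ofFn Ya2) stepa (List.ofFn ala1) := by
  decide +kernel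

theorem spreadb : SpreadOk chevE6 (List.ofFn alb1) (List.ofFn Yb2) stepb (List.ofFn alb1) := by
  decide +kernel

theorem spreadc : SpreadOk chevE6 (List.ofFn alc1) (List.ofFn Yc2) stepc (List.ofFn alc1) := by
  decide +kernel

theorem closeAll : CloseOk chevE6 (List.range 72)
    ((List.range 72).filter (fun r => decide (36 ≤ r)) ++ List.ofFn ala1 ++ List.ofFn alb1 ++
      List.ofFn alc1) stepAll (List.range 72) := by
  decide +kernel

end CfsgLib.ESixDegree
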