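import Cfsg.Agent.ESixDegree.Main
import Cfsg.Agent.ESixDegree.TablesTwo
import Cfsg.Agent.ESixDegree.ClassTablesTwo
import Cfsg.Agent.RootWeight.Fixed

/-!
# The degrees of `E₆(2)`

Either the third level is non-trivial and the degree is above 2464, or a vector of the second fixed
space is fixed by all root elements.
-/

set_option autoImplicit false

namespace CfsgLib.ESixDegree

open Module Cfsg.Lie CfsgLib.RootWeight CfsgLib.Chevalley

section

variable {F : Type*} [Field F] [Fintype F] (hF : Fintype.card F = 2) {W : Type*} [AddCommGroup W]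
  [Module ℂ W] [FiniteDimensional ℂ W] {ψ : AddChar F ℂ} (hψ : ψ.IsPrimitive)
include hF hψ

open Classical in
/-- The number of cells over two elements. -/
theorem card_Par_two {m K d : ℕ} {𝕋 : Tab m K} (hT : 𝕋.Ok d) {n : ℕ}
    (hn : ∑ μ : Fin m, 2 ^ (𝕋.Lo μ).card = n) : Fintype.card (𝕋.Par F) = n := by
  rw [card_Par hT, hF, hn]; simp

/-- Ten coordinates, then four: at least fifteen or trivial. -/
theorem second {Φ : List ℕ} {K K' : ℕ} {Y : Fin 10 → ℕ} {al : Fin K → ℕ} {𝕋 : Tab 10 K}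
    {Y' : Fin 4 → ℕ} {al' : Fin K' → ℕ} {𝕋' : Tab 4 K'} (hT : 𝕋.Ok 6) (L : LinkOk chevE6 Φ Y al 𝕋)
    (hT' : 𝕋'.Ok 3) (L' : LinkOk chevE6 (List.ofFn al) Y' al' 𝕋')
    (hn : ∑ μ : Fin 10, 2 ^ (𝕋.Lo μ).card = 155) (hn' : ∑ μ : Fin 4, 2 ^ (𝕋'.Lo μ).card = 15)
    {st : List (ℕ × ℕ × ℕ × ℤ)}
    (hsp : SpreadOk chevE6 (List.ofFn al) (List.ofFn Y') st (List.ofFn al))
    (R : RRep chevE6 F W Φ) (hnt : ∃ t, R.T (Y 0) t ≠ 1) :
    170 ≤ finrank ℂ W ∨
      (finrank ℂ W = finrank ℂ (LinearMap.range (pr ψ (R.P L) 0)) + 155 ∧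
        ∀ r ∈ List.ofFn al, ∀ t, (R.next L hT.1 ψ).T r t = 1) := by
  classical
  obtain ⟨t, ht⟩ := hnt
  rcases R.step L hT hψ ⟨0, t, ht⟩ with h | h | ⟨-, h⟩
  · rw [hF] at h; norm_num at h; omega
  · rw [card_Par_two hF hψ hT hn] at h; omega
  · rw [card_Par_two hF hψ hT hn] at h
    by_cases hY : ∀ i u, (R.next L hT.1 ψ).T (Y' i) u = 1
    · refine Or.inr ⟨h, (R.next L hT.1 ψ).spread hsp fun r hr => ?_⟩
      obtain ⟨i, rfl⟩ := List.mem_ofFn.1 hr
      exact hY i
    · push Not at hY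
      refine Or.inl ?_
      rcases (R.next L hT.1 ψ).step L' hT' hψ hY with h' | h' | ⟨-, h'⟩
      · rw [hF] at h'; norm_num at h'; omega
      · rw [card_Par_two hF hψ hT' hn'] at h'; omega
      · rw [card_Par_two hF hψ hT' hn'] at h'; omega

end

theorem sum_two_a0 : ∑ μ : Fin 16, 2 ^ (taba0.Lo μ).card = 2295 := by decide +kernel
theorem sum_two_c0 : ∑ μ : Fin 16, 2 ^ (tabc0.Lo μ).card = 2295 := by decide +kernel
theorem sum_two_a1 : ∑ μ : Fin 10, 2 ^ (taba1.Lo μ).card = 155 := by decide +kernel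
theorem sum_two_b1 : ∑ μ : Fin 10, 2 ^ (tabb1.Lo μ).card = 155 := by decide +kernel
theorem sum_two_c1 : ∑ μ : Fin 10, 2 ^ (tabc1.Lo μ).card = 155 := by decide +kernel
theorem sum_two_a2 : ∑ μ : Fin 4, 2 ^ (taba2.Lo μ).card = 15 := by decide +kernel
theorem sum_two_b2 : ∑ μ : Fin 4, 2 ^ (tabb2.Lo μ).card = 15 := by decide +kernel
theorem sum_two_c2 : ∑ μ : Fin 4, 2 ^ (tabc2.Lo μ).card = 15 := by decide +kernel

theorem moved_a0 : ∑ μ : Fin 16, (if (μ : ℕ) < 4 then 2 ^ (taba0.Lo μ).card else 0) = 1920 := by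
  decide +kernel

theorem moved_c0 : ∑ μ : Fin 16, (if (μ : ℕ) < 4 then 2 ^ (tabc0.Lo μ).card else 0) = 1920 := by
  decide +kernel

theorem pos_sub_a : ∀ r ∈ (List.range 72).filter (fun r => decide (36 ≤ r)),
    r ∈ List.ofFn Ya0 ∨ r ∈ List.ofFn Ya1 ∨ r ∈ List.ofFn ala1 := by decide +kernel

theorem sub_pos : ∀ r ∈ List.ofFn Yb1 ++ List.ofFn Yc0 ++ List.ofFn Yc1,
    r ∈ (List.range 72).filter (fun r => decide (36 ≤ r)) := by decide +kernel

theorem no_dvd_2450 : ¬ 2450 ∣ 2 ^ 36 * (3 * 31 * 63 * 255 * 511 * 4095) / 15 * 2 ^ 11 := by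
  decide +kernel

variable {F : Type*} [Field F] [Fintype F]

/-- A further divisor of the centralizer. -/
theorem index_dvd_two (hF : Fintype.card F = 2) :
    (Subgroup.centralizer ({topEl} : Set (chevE6.group F))).index ∣
      2 ^ 36 * (3 * 31 * 63 * 255 * 511 * 4095) / 15 := by
  have h4 : Fintype.card F ^ 4 - 1 ∣ Nat.card (Subgroup.centralizer ({topEl} : Set (chevE6.group F))) :=
    card_dvd_centralizer goodW okh2 linkh2 (by norm_num) 0 ⟨71, by decide +kernel⟩ orthh2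
  have hG := Cfsg.Agent.S1063.result (F := F) hF
  norm_num at hG
  rw [hF] at h4
  norm_num at h4
  refine Nat.dvd_div_of_mul_dvd ?_
  rw [mul_comm]
  refine (Nat.mul_dvd_mul_left _ h4).trans ?_
  rw [Subgroup.index_mul_card, hG]
  norm_num

open Classical in
/-- At least the target for two field elements. -/
theorem bound_two (hF : Fintype.card F = 2) (k : ℕ)
    (ρ : Representation ℂ (chevE6.group F) (Fin k → ℂ)) (hρ : ρ.IsIrreducible) (hk : 2 ≤ k) :
    2482 ≤ k := by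
  haveI := hρ
  obtain ⟨p, hp⟩ := CharP.exists F
  haveI : Fact p.Prime := ⟨CharP.char_is_prime F p⟩
  obtain ⟨ψ, hψ, -⟩ := RepBounds.exists_frobenius_char F p
  have hfr : finrank ℂ (Fin k → ℂ) = k := Module.finrank_fin_fun ℂ
  have hnt := ofRep_ne_one goodW (simple_group F) ρ hρ (by rwa [hfr]) (r := 71) (by decide +kernel)
  set R := ofRep goodW ρ
  by_contra hlt
  rw [not_le] at hlt
  obtain ⟨hE, hk0⟩ : Exact ψ taba0 (R.P linka0) ∧
      k = finrank ℂ (LinearMap.range (pr ψ (R.P linka0) 0)) + 2295 := by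
    rcases R.step linka0 oka0 hψ ⟨0, 1, hnt⟩ with h | h | ⟨hE, h⟩
    · rw [hF, hfr] at h; norm_num at h; omega
    · rw [card_Par_two hF hψ oka0 sum_two_a0, hfr] at h; omega
    · rw [card_Par_two hF hψ oka0 sum_two_a0, hfr] at h; exact ⟨hE, h⟩
  have hdvd := dvd_of_exact hψ k ρ hρ hk hE
  have hbig : k < 2465 := by
    by_contra h
    obtain ⟨D, hD1, hD2, rfl⟩ : ∃ D, 1 ≤ D ∧ D < 18 ∧ k = tgt 2 - D :=
      ⟨2482 - k, by omega, by omega, by show k = 2482 - _; omega⟩
    refine no_dvd_two D hD2 hD1 (Nat.mod_eq_zero_of_dvd (hdvd.trans ?_))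
    refine (Nat.mul_dvd_mul_right index_dvd _).trans (dvd_of_eq ?_)
    rw [bigN, hF]
    ring
  have hn1 := R.next_nontrivial linka0 oka0 hψ hE sidea0 _ adja0
    (phase_of_com R linka0 oka0 coma0 coma0_ok) (by
      rw [Finset.sum_filter, hF, moved_a0]; norm_num)
  obtain ⟨hk1, htra⟩ := (second hF hψ oka1 linka1 oka2 linka2 sum_two_a1 sum_two_a2 spreada
    (R.next linka0 oka0.1 ψ) hn1).resolve_left (by omega)
  set W2 := LinearMap.range (pr ψ ((R.next linka0 oka0.1 ψ).P linka1) 0) with hW2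
  rcases Nat.eq_zero_or_pos (finrank ℂ W2) with h0 | hpos
  · refine no_dvd_2450 ?_
    rw [show k = 2450 by omega, hF] at hdvd
    exact hdvd.trans (Nat.mul_dvd_mul_right (index_dvd_two hF) _)
  haveI : Nontrivial W2 := Module.nontrivial_of_finrank_pos (R := ℂ) hpos
  obtain ⟨x, hx⟩ := exists_ne (0 : W2)
  set v : Fin k → ℂ := ((x : LinearMap.range (pr ψ (R.P linka0) 0)) : Fin k → ℂ) with hv
  have hv0 : v ≠ 0 := fun h => hx (Subtype.ext (Subtype.ext h))
  have hY0 : ∀ i t, R.T (Ya0 i) t v = v := fun i t => R.T_range_fixed linka0 _ i t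
  have hY1 : ∀ i t, R.T (Ya1 i) t v = v := fun i t =>
    (R.next_apply linka0 oka0.1 (linka1.1 i) t _).symm.trans
      (congrArg Subtype.val ((R.next linka0 oka0.1 ψ).T_range_fixed linka1 x i t))
  have hA := R.fix_of_trivial linka0 linka1 oka0.1 oka1.1 htra hY0 hY1
  have hpos' : ∀ r ∈ (List.range 72).filter (fun r => decide (36 ≤ r)), ∀ t, R.T r t v = v := by
    intro r hr t
    rcases pos_sub_a r hr with h | h | h
    · obtain ⟨i, rfl⟩ := List.mem_ofFn.1 h; exact hY0 i t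
    · obtain ⟨i, rfl⟩ := List.mem_ofFn.1 h; exact hY1 i t
    · exact hA r h t
  obtain ⟨-, htrb⟩ := (second hF hψ okb1 linkb1 okb2 linkb2 sum_two_b1 sum_two_b2 spreadb
    (R.next linka0 oka0.1 ψ) hn1).resolve_left (by omega)
  have hB := R.fix_of_trivial linka0 linkb1 oka0.1 okb1.1 htrb hY0 fun i t =>
    hpos' _ (sub_pos _ (List.mem_append_left _ (List.mem_append_left _ (List.mem_ofFn.2 ⟨i, rfl⟩)))) t
  obtain ⟨hEc, hkc⟩ : Exact ψ tabc0 (R.P linkc0) ∧
      k = finrank ℂ (LinearMap.range (pr ψ (R.P linkc0) 0)) + 2295 := by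
    rcases R.step linkc0 okc0 hψ ⟨0, 1, hnt⟩ with h | h | ⟨hEc, h⟩
    · rw [hF, hfr] at h; norm_num at h; omega
    · rw [card_Par_two hF hψ okc0 sum_two_c0, hfr] at h; omega
    · rw [card_Par_two hF hψ okc0 sum_two_c0, hfr] at h; exact ⟨hEc, h⟩
  have hnc := R.next_nontrivial linkc0 okc0 hψ hEc sidec0 _ adjc0
    (phase_of_com R linkc0 okc0 comc0 comc0_ok) (by
      rw [Finset.sum_filter, hF, moved_c0]; norm_num)
  obtain ⟨-, htrc⟩ := (second hF hψ okc1 linkc1 okc2 linkc2 sum_two_c1 sum_two_c2 spreadc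
    (R.next linkc0 okc0.1 ψ) hnc).resolve_left (by omega)
  have hC := R.fix_of_trivial linkc0 linkc1 okc0.1 okc1.1 htrc
    (fun i t => hpos' _ (sub_pos _ (List.mem_append_left _ (List.mem_append_right _ (List.mem_ofFn.2 ⟨i, rfl⟩)))) t)
    (fun i t => hpos' _ (sub_pos _ (List.mem_append_right _ (List.mem_ofFn.2 ⟨i, rfl⟩))) t)
  have hall := R.close closeAll (v := v) fun r hr => by
    simp only [List.mem_append] at hr
    rcases hr with ((h | h) | h) | h
    exacts [hpos' r h, hA r h, hB r h, hC r h]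
  have hfix : ∀ g : chevE6.group F, ρ g v = v := by
    rintro ⟨g, hg⟩
    have hg' := hg
    rw [group_eq_closure goodW.good] at hg'
    induction hg' using Subgroup.closure_induction with
    | mem x hx =>
      obtain ⟨r, t, rfl⟩ := hx
      have h72 : (r : ℕ) < 72 := r.isLt
      have := hall r (List.mem_range.2 h72) t
      rwa [ofRep_T goodW ρ r.isLt] at this
    | one =>
      show ρ (1 : chevE6.group F) v = v
      rw [map_one]; rfl
    | mul x y hx hy ihx ihy =>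
      rw [← group_eq_closure goodW.good] at hx hy
      show ρ ((⟨x, hx⟩ : chevE6.group F) * ⟨y, hy⟩) v = v
      rw [map_mul, Module.End.mul_apply, ihy, ihx]
    | inv x hx ihx =>
      rw [← group_eq_closure goodW.good] at hx
      show ρ (⟨x, hx⟩ : chevE6.group F)⁻¹ v = v
      conv_lhs => rw [← ihx hx]
      rw [← Module.End.mul_apply, ← map_mul, inv_mul_cancel, map_one]; rfl
  let S : Subrepresentation ρ := ⟨Submodule.span ℂ {v}, fun g w hw => by
    obtain ⟨c, rfl⟩ := Submodule.mem_span_singleton.1 hw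
    rw [map_smul, hfix g]; exact Submodule.mem_span_singleton.2 ⟨c, rfl⟩⟩
  rcases hρ.eq_bot_or_eq_top S with hS | hS
  · exact hv0 (Submodule.span_singleton_eq_bot.1 (congrArg Subrepresentation.toSubmodule hS))
  · have h3 : Submodule.span ℂ {v} = ⊤ := congrArg Subrepresentation.toSubmodule hS
    have h2 := finrank_span_singleton (K := ℂ) hv0
    rw [h3, finrank_top, hfr] at h2
    omega

end CfsgLib.ESixDegree
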